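import Groth.Prelude.Def_W4c2submetdescSubtr
import Groth.Agent.Lib.HTop.Val
import Mathlib.AlgebraicGeometry.Morphisms.UniversallyOpen
import Mathlib.RingTheory.Flat.FaithfullyFlat.Algebra
import Mathlib.RingTheory.Flat.TorsionFree

/-!
# Valuative criteria for universally subtrusive and universally open morphisms
-/

set_option backward.isDefEq.respectTransparency false

universe u

open CategoryTheory CategoryTheory.Limits AlgebraicGeometry IsLocalRing GrothLib.HTop

noncomputable section

namespace GrothLib.SubtrLim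

variable {X Y : Scheme.{u}} (f : X ⟶ Y)

/-- The valuation ring pullbacks of `f` have a pair of points over the generic and closed point. -/
def ValPair : Prop :=
  ∀ (V : CommRingCat.{u}) [IsDomain V] [ValuationRing V] (g : Spec V ⟶ Y) {P : Scheme.{u}} (a : P ⟶ X)
    (b : P ⟶ Spec V), IsPullback a b f g → ∃ x x' : P, x' ⤳ x ∧ b x = closed V ∧ b x' = gen V

/-- In the valuation ring pullbacks of `f` special points generalise to generic points. -/
def ValGen : Prop :=
  ∀ (V : CommRingCat.{u}) [IsDomain V] [ValuationRing V] (g : Spec V ⟶ Y) {P : Scheme.{u}} (a : P ⟶ X)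
    (b : P ⟶ Spec V), IsPullback a b f g → ∀ x : P, b x = closed V → ∃ x' : P, x' ⤳ x ∧ b x' = gen V

variable {f}

theorem univSSubtrusive_iff_valPair : Subtr.UnivSSubtrusive f ↔ ValPair f := by
  refine ⟨fun h V _ _ g P a b hP => h a g b hP.flip (gen_specializes _), fun h X' Y' i₁ i₂ f' hf' => ?_⟩
  intro t t' ht
  obtain ⟨V, _, _, g, hg, hg'⟩ := exists_valuationRing_map ht
  obtain ⟨x, x', hx, hbx, hbx'⟩ :=
    h V (g ≫ i₂) _ _ ((IsPullback.of_hasPullback f' g).paste_horiz hf'.flip)
  refine ⟨pullback.fst f' g x, pullback.fst f' g x', hx.map (pullback.fst f' g).continuous, ?_, ?_⟩ <;>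
    rw [← Scheme.Hom.comp_apply, pullback.condition, Scheme.Hom.comp_apply] <;>
    simp only [hbx, hbx', hg, hg']

theorem universallyOpen_of_valGen [LocallyOfFinitePresentation f] (h : ValGen f) : UniversallyOpen f := by
  refine ⟨fun X' Y' i₁ i₂ f' hf' => ?_⟩
  haveI : LocallyOfFinitePresentation f' := MorphismProperty.of_isPullback hf'.flip inferInstance
  refine isOpenMap_of_generalizingMap f' fun x t' ht => ?_
  obtain ⟨V, _, _, g, hg, hg'⟩ := exists_valuationRing_map ht
  obtain ⟨z, hz, hz'⟩ := Scheme.Pullback.exists_preimage_pullback x (closed V) hg'.symm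
  obtain ⟨z', hzz, hbz⟩ := h V (g ≫ i₂) _ _ ((IsPullback.of_hasPullback f' g).paste_horiz hf'.flip) z hz'
  refine ⟨pullback.fst f' g z', hz ▸ hzz.map (pullback.fst f' g).continuous, ?_⟩
  rw [← Scheme.Hom.comp_apply, pullback.condition, Scheme.Hom.comp_apply, hbz, hg]

/-- A map of valuation ring spectra hitting the generic and the closed point is surjective. -/
theorem surjective_of_gen_closed {V W : CommRingCat.{u}} [IsDomain V] [ValuationRing V] [IsDomain W]
    [ValuationRing W] (b : Spec W ⟶ Spec V) (hgen : b (gen W) = gen V) (hclosed : b (closed W) = closed V) :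
    Surjective b := by
  let φ := Spec.preimage b
  have hb : Spec.map φ = b := Spec.map_preimage b
  rw [← hb] at hgen hclosed ⊢
  have hinj := injective_of_specMap_gen hgen
  haveI hloc := isLocalHom_of_specMap_closed φ hclosed
  algebraize [φ.hom]
  haveI : Module.Flat V W := by
    refine Module.Flat.flat_iff_torsion_eq_bot_of_isBezout.mpr ?_
    refine (Submodule.eq_bot_iff _).mpr fun z hz => ?_
    obtain ⟨a, ha⟩ := (Submodule.mem_torsion_iff _).mp hz
    rw [Submonoid.smul_def, Algebra.smul_def, mul_eq_zero] at ha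
    exact ha.resolve_left fun h => nonZeroDivisors.coe_ne_zero a (hinj (h.trans (map_zero _).symm))
  haveI : IsLocalHom (algebraMap V W) := hloc
  haveI : Module.FaithfullyFlat V W := Module.FaithfullyFlat.of_flat_of_isLocalHom
  exact ⟨PrimeSpectrum.comap_surjective_of_faithfullyFlat (A := V) (B := W)⟩

end GrothLib.SubtrLim
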