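import Groth.Agent.Lib.SubtrLim.ConeUltra
import Groth.Agent.Lib.HTop.Val
import Mathlib.AlgebraicGeometry.AffineTransitionLimit

/-!
# Closed and generic point of an ultraproduct point of a limit of affine schemes
-/

set_option backward.isDefEq.respectTransparency false

universe u

open CategoryTheory CategoryTheory.Limits AlgebraicGeometry Filter GrothLib.HTop

noncomputable section

namespace GrothLib.SubtrLim

variable {I : Type u} [SmallCategory I] [IsCofiltered I]

/-- The prime of a point of an affine scheme. -/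
def primeOf {T : Scheme.{u}} [IsAffine T] (x : T) : Ideal Γ(T, ⊤) := (T.isoSpec.hom x).asIdeal

lemma primeOf_injective {T : Scheme.{u}} [IsAffine T] {x y : T} (h : primeOf x = primeOf y) : x = y :=
  T.isoSpec.hom.homeomorph.injective (PrimeSpectrum.ext h)

lemma primeOf_specMap {R : CommRingCat.{u}} {T : Scheme.{u}} [IsAffine T] (m : Spec R ⟶ T) (z : Spec R) :
    primeOf (m z) = z.asIdeal.comap (pointRing m).hom := by
  conv_lhs => rw [← specMap_pointRing m]
  rw [primeOf, ← Scheme.Hom.comp_apply, Category.assoc, Iso.inv_hom_id, Category.comp_id]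
  rfl

lemma primeOf_map {T T' : Scheme.{u}} [IsAffine T] [IsAffine T'] (g : T ⟶ T') (x : T) :
    primeOf (g x) = (primeOf x).comap g.appTop.hom := by
  rw [primeOf, primeOf, ← Scheme.Hom.comp_apply, ← Scheme.isoSpec_hom_naturality, Scheme.Hom.comp_apply]
  rfl

variable (E F : I ⥤ Scheme.{u}) [∀ j, IsAffine (E.obj j)] [∀ j, IsAffine (F.obj j)] (η : E ⟶ F)
  {c : Cone E} (hc : IsLimit c)

include hc in
/-- If at every stage a pair of points of `F` lifts to a valuation ring point of `E`, then so it does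
at the limit. -/
theorem exists_ultra_points [Nonempty I] (z z' : ∀ j, F.obj j)
    (H : ∀ i : I, ∃ (V : CommRingCat.{u}) (_ : IsDomain V) (_ : ValuationRing V) (h : Spec V ⟶ E.obj i),
      ∀ (j : I) (a : i ⟶ j),
        (h ≫ E.map a ≫ η.app j) (closed V) = z j ∧ (h ≫ E.map a ≫ η.app j) (gen V) = z' j) :
    ∃ (V : CommRingCat.{u}) (_ : IsDomain V) (_ : ValuationRing V) (u : Spec V ⟶ c.pt), ∀ j : I,
      (u ≫ c.π.app j ≫ η.app j) (closed V) = z j ∧ (u ≫ c.π.app j ≫ η.app j) (gen V) = z' j := by
  classical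
  obtain ⟨i₀⟩ := ‹Nonempty I›
  choose S T hT using exists_stage_below i₀
  choose V hV1 hV2 h hh using fun H' : Finset (Arr I) => H (S H')
  haveI := hV1
  haveI := hV2
  let V' : Finset (Arr I) → Type u := fun k => V k
  let U : Ultrafilter (Finset (Arr I)) := Ultrafilter.of atTop
  have hev : ∀ a : Arr I, ∀ᶠ H' in (U : Filter (Finset (Arr I))), a ∈ H' := fun a =>
    ((eventually_ge_atTop ({a} : Finset (Arr I))).filter_mono (Ultrafilter.of_le atTop)).mono
      fun H' hH' => hH' (Finset.mem_singleton_self a)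
  let pt : ∀ (H' : Finset (Arr I)) (j : I), j ∈ objs i₀ H' → (Γ(E.obj j, ⊤) ⟶ V H') :=
    fun H' j hj => pointRing (h H' ≫ E.map (T H' j hj))
  let τ : ∀ (j : I), Γ(E.obj j, ⊤) → ∀ H', V' H' := fun j x H' =>
    if hj : j ∈ objs i₀ H' then (pt H' j hj).hom x else 0
  have hmem : ∀ j : I, ∀ᶠ H' in (U : Filter (Finset (Arr I))), j ∈ objs i₀ H' := fun j =>
    (hev ⟨j, j, 𝟙 j⟩).mono fun H' hH' => src_mem_objs i₀ hH'
  let Ψ : ∀ j : I, Γ(E.obj j, ⊤) →+* UProd U V' := fun j =>
    { toFun := fun x => UProd.mk U V' (τ j x)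
      map_one' := by
        rw [← map_one (UProd.mk U V'), mk_eq_mk_iff]
        filter_upwards [hmem j] with H' hH'
        simp only [τ, dif_pos hH', map_one, Pi.one_apply]
      map_mul' := fun x y => by
        rw [← map_mul, mk_eq_mk_iff]
        filter_upwards [hmem j] with H' hH'
        simp only [τ, dif_pos hH', map_mul, Pi.mul_apply]
      map_zero' := by
        rw [mk_eq_zero_iff]
        filter_upwards [hmem j] with H' hH'
        simp only [τ, dif_pos hH', map_zero]
      map_add' := fun x y => by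
        rw [← map_add, mk_eq_mk_iff]
        filter_upwards [hmem j] with H' hH'
        simp only [τ, dif_pos hH', map_add, Pi.add_apply]
        }
  let R := CommRingCat.of (UProd U V')
  let s : Cone E :=
    { pt := Spec R
      π :=
        { app := fun j => Spec.map (CommRingCat.ofHom (Ψ j) : Γ(E.obj j, ⊤) ⟶ R) ≫ (E.obj j).isoSpec.inv
          naturality := fun j j' a => by
            have key : (E.map a).appTop ≫ (CommRingCat.ofHom (Ψ j) : Γ(E.obj j, ⊤) ⟶ R) =
                CommRingCat.ofHom (Ψ j') := by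
              ext x
              show UProd.mk U V' (τ j ((E.map a).appTop.hom x)) = UProd.mk U V' (τ j' x)
              rw [mk_eq_mk_iff]
              filter_upwards [hev ⟨j, j', a⟩] with H' hH'
              simp only [τ, dif_pos (src_mem_objs i₀ hH'), dif_pos (tgt_mem_objs i₀ hH')]
              show ((E.map a).appTop ≫ pt H' j (src_mem_objs i₀ hH')).hom x = _
              congr 2
              simp only [pt]
              rw [← pointRing_comp, Category.assoc, ← E.map_comp, hT H' j j' a hH']
            dsimp only [Functor.const_obj_map, Functor.const_obj_obj]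
            rw [Category.id_comp, Category.assoc, ← Scheme.isoSpec_inv_naturality, ← Spec.map_comp_assoc,
              key] } }
  refine ⟨R, inferInstanceAs (IsDomain (UProd U V')), inferInstanceAs (ValuationRing (UProd U V')),
    hc.lift s, fun j => ?_⟩
  have key : ∀ a : Γ(F.obj j, ⊤), (pointRing (hc.lift s ≫ c.π.app j ≫ η.app j)).hom a =
      UProd.mk U V' (τ j ((η.app j).appTop.hom a)) := by
    intro a
    rw [← Category.assoc, pointRing_comp, hc.fac]
    show (pointRing (Spec.map (CommRingCat.ofHom (Ψ j) : Γ(E.obj j, ⊤) ⟶ R) ≫ (E.obj j).isoSpec.inv)).hom _ = _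
    rw [show pointRing (Spec.map (CommRingCat.ofHom (Ψ j) : Γ(E.obj j, ⊤) ⟶ R) ≫ (E.obj j).isoSpec.inv) =
      CommRingCat.ofHom (Ψ j) from Spec.map_injective <| (cancel_mono (E.obj j).isoSpec.inv).mp
        (specMap_pointRing _)]
    rfl
  have hk : ∀ a : Γ(F.obj j, ⊤), ∀ᶠ k in (U : Filter (Finset (Arr I))), ∃ φ : S k ⟶ j,
      τ j ((η.app j).appTop.hom a) k = (pointRing (h k ≫ E.map φ ≫ η.app j)).hom a := by
    intro a
    filter_upwards [hmem j] with k hkj
    refine ⟨T k j hkj, ?_⟩
    simp only [τ, dif_pos hkj, pt]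
    rw [← Category.assoc, pointRing_comp]
    rfl
  constructor
  · refine primeOf_injective (Ideal.ext fun a => ?_)
    rw [primeOf_specMap, Ideal.mem_comap, key]
    change UProd.mk U V' _ ∈ IsLocalRing.maximalIdeal (UProd U V') ↔ _
    rw [mk_mem_maximalIdeal_iff]
    refine ⟨fun hm => ?_, fun hm => ?_⟩
    · obtain ⟨k, hk1, φ, hk2⟩ := (hm.and (hk a)).exists
      rw [← (hh k j φ).1, primeOf_specMap, Ideal.mem_comap, ← hk2]
      exact hk1
    · filter_upwards [hk a] with k hk'
      obtain ⟨φ, hk2⟩ := hk'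
      rw [hk2]
      rw [← (hh k j φ).1, primeOf_specMap, Ideal.mem_comap] at hm
      exact hm
  · refine primeOf_injective (Ideal.ext fun a => ?_)
    rw [primeOf_specMap, Ideal.mem_comap, key]
    change UProd.mk U V' _ ∈ (⊥ : Ideal (UProd U V')) ↔ _
    rw [Ideal.mem_bot, mk_eq_zero_iff]
    refine ⟨fun hm => ?_, fun hm => ?_⟩
    · obtain ⟨k, hk1, φ, hk2⟩ := (hm.and (hk a)).exists
      rw [← (hh k j φ).2, primeOf_specMap, Ideal.mem_comap, ← hk2, hk1]
      exact Ideal.zero_mem _
    · filter_upwards [hk a] with k hk'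
      obtain ⟨φ, hk2⟩ := hk'
      rw [hk2]
      rw [← (hh k j φ).2, primeOf_specMap, Ideal.mem_comap] at hm
      exact hm

omit [IsCofiltered I] in
/-- Points of a limit of affine schemes are determined by their images. -/
theorem eq_of_forall_π [IsCofiltered I] {G : I ⥤ Scheme.{u}} [∀ j, IsAffine (G.obj j)] {cG : Cone G}
    (hcG : IsLimit cG) {x y : (cG.pt : Scheme.{u})} (h : ∀ j, cG.π.app j x = cG.π.app j y) : x = y := by
  haveI : IsAffine cG.pt := Scheme.isAffine_of_isLimit _ hcG
  refine primeOf_injective (Ideal.ext fun s => ?_)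
  obtain ⟨j, t, rfl⟩ := exists_appTop_π_eq_of_isLimit G cG hcG s
  show t ∈ (primeOf x).comap (cG.π.app j).appTop.hom ↔ t ∈ (primeOf y).comap (cG.π.app j).appTop.hom
  rw [← primeOf_map (T := cG.pt), ← primeOf_map (T := cG.pt)]
  exact iff_of_eq (congrArg (fun z => t ∈ primeOf z) (h j))

end GrothLib.SubtrLim
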