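import Groth.Prelude.Def_SGA1
import Groth.Agent.Lib.SubtrLim.Criterion
import Groth.Agent.Lib.DVRDom.Scheme
import Groth.Agent.Lib.LimDescend.FgAlg
import Groth.Agent.S14765
import Groth.Agent.S14791
import Mathlib.RingTheory.PowerSeries.Inverse
import Mathlib.Tactic.FinCases

/-!
# Submersive and subtrusive morphisms
-/

set_option backward.isDefEq.respectTransparency false
set_option linter.style.haveILetI false

universe u

open CategoryTheory CategoryTheory.Limits AlgebraicGeometry GrothLib.HTop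

noncomputable section

namespace GrothLib.SubtrLim

variable {X Y : Scheme.{u}} {f : X ⟶ Y}

/-- A quasi-compact subtrusive morphism is submersive. -/
theorem isQuotientMap_of_isSSubtrusive [QuasiCompact f] (h : Subtr.IsSSubtrusive f) :
    Topology.IsQuotientMap f := by
  rw [Topology.isQuotientMap_iff_isClosed]
  refine ⟨fun y => ?_, fun E => ⟨fun hE => hE.preimage f.continuous, fun hE => ?_⟩⟩
  · obtain ⟨x, -, -, hx, -⟩ := h (specializes_refl y)
    exact ⟨x, hx⟩
  · refine closure_subset_iff_isClosed.mp fun y hy => ?_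
    let J := Scheme.IdealSheafData.vanishingIdeal (⟨f ⁻¹' E, hE⟩ : TopologicalSpace.Closeds X)
    have hr : Set.range J.subschemeι = f ⁻¹' E := RedSub.range_subschemeι_vanishingIdeal _
    have hsurj : Function.Surjective f := fun y => by
      obtain ⟨x, -, -, hx, -⟩ := h (specializes_refl y); exact ⟨x, hx⟩
    have hrE : Set.range (J.subschemeι ≫ f).base = E := by
      show Set.range (f ∘ J.subschemeι) = E
      rw [Set.range_comp, hr, Set.image_preimage_eq _ hsurj]
    obtain ⟨w, hw⟩ := GrothLib.DVRDom.exists_specializes_of_mem_closure (J.subschemeι ≫ f) y (hrE ▸ hy)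
    obtain ⟨x, x', hx, hfx, hfx'⟩ := h hw
    have hx'E : x' ∈ f ⁻¹' E := by
      rw [Set.mem_preimage, hfx']
      exact hrE.le ⟨w, rfl⟩
    have hxE : x ∈ f ⁻¹' E := hE.stableUnderSpecialization hx hx'E
    rw [Set.mem_preimage, hfx] at hxE
    exact hxE

theorem univSubmersive_of_univSSubtrusive [QuasiCompact f] (h : Subtr.UnivSSubtrusive f) :
    SGA1.UnivSubmersive f := fun X' Y' i₁ i₂ f' hf' =>
  haveI : QuasiCompact f' := MorphismProperty.of_isPullback hf'.flip ‹QuasiCompact f›
  isQuotientMap_of_isSSubtrusive (h i₁ i₂ f' hf')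

/-- Being submersive can be checked on the pullbacks to valuation rings. -/
theorem isQuotientMap_of_forall_valuationRing [QuasiCompact f]
    (h : ∀ (V : CommRingCat.{u}) [IsDomain V] [ValuationRing V] (g : Spec V ⟶ Y),
      Topology.IsQuotientMap (pullback.snd f g)) : Topology.IsQuotientMap f := by
  have hsurj : Function.Surjective f := fun y => by
    obtain ⟨V, _, _, g, hg, hg'⟩ := exists_valuationRing_map (specializes_refl y)
    obtain ⟨z, hz⟩ := (h V g).surjective (closed V)
    exact ⟨pullback.fst f g z, by rw [← Scheme.Hom.comp_apply, pullback.condition, Scheme.Hom.comp_apply, hz, hg']⟩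
  rw [Topology.isQuotientMap_iff_isClosed]
  refine ⟨hsurj, fun E => ⟨fun hE => hE.preimage f.continuous, fun hE => ?_⟩⟩
  refine closure_subset_iff_isClosed.mp fun y hy => ?_
  let J := Scheme.IdealSheafData.vanishingIdeal (⟨f ⁻¹' E, hE⟩ : TopologicalSpace.Closeds X)
  have hr : Set.range J.subschemeι = f ⁻¹' E := RedSub.range_subschemeι_vanishingIdeal _
  have hrE : Set.range (J.subschemeι ≫ f).base = E := by
    show Set.range (f ∘ J.subschemeι) = E
    rw [Set.range_comp, hr, Set.image_preimage_eq _ hsurj]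
  obtain ⟨w, hw⟩ := GrothLib.DVRDom.exists_specializes_of_mem_closure (J.subschemeι ≫ f) y (hrE ▸ hy)
  obtain ⟨V, _, _, g, hg, hg'⟩ := exists_valuationRing_map hw
  have hpre : pullback.snd f g ⁻¹' (g ⁻¹' E) = pullback.fst f g ⁻¹' (f ⁻¹' E) := by
    ext z
    simp only [Set.mem_preimage]
    rw [← Scheme.Hom.comp_apply, ← Scheme.Hom.comp_apply, pullback.condition]
  have hcl : IsClosed (g ⁻¹' E) := ((h V g).isClosed_preimage).mp
    (hpre ▸ hE.preimage (pullback.fst f g).continuous)
  have hgen : gen V ∈ g ⁻¹' E := by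
    rw [Set.mem_preimage, hg]
    exact hrE.le ⟨w, rfl⟩
  have := hcl.stableUnderSpecialization (gen_specializes (closed V)) hgen
  rw [Set.mem_preimage, hg'] at this
  exact this

theorem univSubmersive_iff_forall_valuationRing [QuasiCompact f] :
    SGA1.UnivSubmersive f ↔ ∀ (V : CommRingCat.{u}) [IsDomain V] [ValuationRing V] (g : Spec V ⟶ Y),
      Topology.IsQuotientMap (pullback.snd f g) := by
  refine ⟨fun h V _ _ g => h (pullback.fst f g) g (pullback.snd f g) (IsPullback.of_hasPullback f g).flip,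
    fun h X' Y' i₁ i₂ f' hf' => ?_⟩
  haveI : QuasiCompact f' := MorphismProperty.of_isPullback hf'.flip ‹QuasiCompact f›
  refine isQuotientMap_of_forall_valuationRing fun V _ _ g => ?_
  have sq := (IsPullback.of_hasPullback f' g).paste_horiz hf'.flip
  show Topology.IsQuotientMap (pullback.snd f' g)
  rw [← sq.isoPullback_hom_snd]
  exact (h V (g ≫ i₂)).comp sq.isoPullback.hom.homeomorph.isQuotientMap

/-- Over the spectrum of a discrete valuation ring a submersive morphism is subtrusive. -/
theorem isSSubtrusive_of_isQuotientMap_dvr (V : Type u) [CommRing V] [IsDomain V] [IsDiscreteValuationRing V]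
    {P : Scheme.{u}} (b : P ⟶ Spec (CommRingCat.of V)) (h : Topology.IsQuotientMap b) :
    Subtr.IsSSubtrusive b := by
  refine ((Groth.Agent.S14765.result V b).out 2 1).mp fun y => ?_
  let η : Spec (CommRingCat.of V) := (⟨⊥, Ideal.isPrime_bot⟩ : PrimeSpectrum V)
  have hcase : ∀ z : Spec (CommRingCat.of V), z = η ∨ z = closed (CommRingCat.of V) := fun z => by
    by_cases hz : z.asIdeal = ⊥
    · exact Or.inl (PrimeSpectrum.ext hz)
    · exact Or.inr (PrimeSpectrum.ext (IsLocalRing.eq_maximalIdeal (Ideal.IsPrime.isMaximal z.2 hz)))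
  rcases hcase y with rfl | rfl
  · obtain ⟨x, hx⟩ := h.surjective η
    exact ⟨x, subset_closure hx, hx⟩
  · by_contra hcon
    push Not at hcon
    have hcl : IsClosed (b ⁻¹' {η}) := closure_subset_iff_isClosed.mp fun x hx => by
      rcases hcase (b x) with h' | h'
      · exact h'
      · exact absurd h' (hcon x hx)
    have hη : IsClosed ({η} : Set (Spec (CommRingCat.of V))) := h.isClosed_preimage.mp hcl
    have := hη.stableUnderSpecialization (gen_specializes (R := CommRingCat.of V) (closed (CommRingCat.of V))) rfl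
    exact IsDiscreteValuationRing.not_a_field V (congrArg PrimeSpectrum.asIdeal (Set.mem_singleton_iff.mp this))

/-- Pairs exist over all discrete valuation rings. -/
def DvrPair (f : X ⟶ Y) : Prop :=
  ∀ (D : Type u) [CommRing D] [IsDomain D] [IsDiscreteValuationRing D] (g : Spec (CommRingCat.of D) ⟶ Y),
    ∃ x x' : (pullback f g : Scheme.{u}), x' ⤳ x ∧ pullback.snd f g x = closed (CommRingCat.of D) ∧
      pullback.snd f g x' = gen (CommRingCat.of D)

theorem dvrPair_of_univSubmersive (h : SGA1.UnivSubmersive f) : DvrPair f := fun D _ _ _ g =>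
  isSSubtrusive_of_isQuotientMap_dvr D (pullback.snd f g)
    (h (pullback.fst f g) g (pullback.snd f g) (IsPullback.of_hasPullback f g).flip)
    (gen_specializes (R := CommRingCat.of D) (closed (CommRingCat.of D)))

/-- A discrete valuation ring realising a specialisation in a locally noetherian scheme. -/
theorem exists_dvr_map [IsLocallyNoetherian Y] {y y' : Y} (h : y' ⤳ y) :
    ∃ (D : Type u) (_ : CommRing D) (_ : IsDomain D) (_ : IsDiscreteValuationRing D)
      (g : Spec (CommRingCat.of D) ⟶ Y),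
      g (gen (CommRingCat.of D)) = y' ∧ g (closed (CommRingCat.of D)) = y := by
  by_cases hne : y = y'
  · subst hne
    let g := Spec.map (CommRingCat.ofHom (PowerSeries.C (R := Y.residueField y))) ≫ Y.fromSpecResidueField y
    refine ⟨PowerSeries (Y.residueField y), inferInstance, inferInstance, inferInstance, g, ?_, ?_⟩ <;>
      exact (Scheme.Hom.comp_apply _ _ _).trans (Scheme.fromSpecResidueField_apply y _)
  · obtain ⟨A, g, hA, hg, hg'⟩ := GrothLib.DVRDom.exists_dvr_over (𝟙 Y) y' y h hne
    refine ⟨A, inferInstance, inferInstance, hA, g, ?_, hg⟩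
    have h1 : Spec.map (CommRingCat.ofHom A.subtype) (gen (Y.residueField y')) = gen (CommRingCat.of A) :=
      specMap_gen Subtype.val_injective
    rw [← h1, ← Scheme.Hom.comp_apply, hg', Category.comp_id]
    exact Scheme.fromSpecResidueField_apply y' _

/-- Over a locally noetherian scheme, pairs over discrete valuation rings give subtrusiveness. -/
theorem isSSubtrusive_of_dvrPair [IsLocallyNoetherian Y] (h : DvrPair f) : Subtr.IsSSubtrusive f := by
  intro y y' hy
  obtain ⟨D, _, _, _, g, hg, hg'⟩ := exists_dvr_map hy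
  obtain ⟨x, x', hx, hbx, hbx'⟩ := h D g
  refine ⟨pullback.fst f g x, pullback.fst f g x', hx.map (pullback.fst f g).continuous, ?_, ?_⟩ <;>
    rw [← Scheme.Hom.comp_apply, pullback.condition, Scheme.Hom.comp_apply]
  · rw [hbx, hg']
  · rw [hbx', hg]

theorem dvrPair_pullback_snd (h : DvrPair f) {T : Scheme.{u}} (t : T ⟶ Y) : DvrPair (pullback.snd f t) := by
  intro D _ _ _ g
  obtain ⟨x, x', hx, hbx, hbx'⟩ := h D (g ≫ t)
  have sq := (IsPullback.of_hasPullback (pullback.snd f t) g).paste_horiz (IsPullback.of_hasPullback f t)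
  refine ⟨sq.isoPullback.inv x, sq.isoPullback.inv x', hx.map sq.isoPullback.inv.continuous, ?_, ?_⟩ <;>
    rw [← Scheme.Hom.comp_apply, IsPullback.isoPullback_inv_snd]
  exacts [hbx, hbx']

open GrothLib.LimDescend.Rel in
/-- Over a locally noetherian base, pairs over discrete valuation rings suffice. -/
theorem valPair_of_dvrPair [IsLocallyNoetherian Y] [QuasiCompact f] (h : DvrPair f) : ValPair f := by
  intro V _ _ g P a b hP
  obtain ⟨U, hU, hgU, -⟩ := exists_isAffineOpen_mem_and_subset (X := Y) (U := ⊤) (x := g (closed V)) trivial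
  haveI : IsNoetherianRing Γ(Y, U) := IsLocallyNoetherian.component_noetherian ⟨U, hU⟩
  obtain ⟨l, hl⟩ := exists_lift_of_closed_mem g U.ι (by rw [Scheme.Opens.range_ι]; exact hgU)
  let α : Γ(Y, U) ⟶ V := Spec.preimage (l ≫ hU.isoSpec.hom)
  have hα : Spec.map α ≫ hU.fromSpec = g := by
    rw [← hl, Spec.map_preimage, IsAffineOpen.fromSpec, Category.assoc, Iso.hom_inv_id_assoc]
  letI : Algebra Γ(Y, U) V := α.hom.toAlgebra
  let D := fgDiagram Γ(Y, U) V
  let c := fgCone Γ(Y, U) V
  let S₀ : FgSub Γ(Y, U) V := ⟨⊥, Subalgebra.fg_bot⟩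
  let i₀ : (FgSub Γ(Y, U) V)ᵒᵖ := Opposite.op S₀
  let t : D.obj i₀ ⟶ Y := Spec.map (CommRingCat.ofHom (algebraMap Γ(Y, U) ↥S₀.1)) ≫ hU.fromSpec
  have ht : c.π.app i₀ ≫ t = g := by
    rw [← hα, show c.π.app i₀ = Spec.map (CommRingCat.ofHom (algebraMap ↥S₀.1 V)) from rfl,
      ← Category.assoc, ← Spec.map_comp]
    rfl
  have hnoeth : ∀ i, IsLocallyNoetherian (D.obj i) := fun i => by
    haveI : Algebra.FiniteType Γ(Y, U) i.unop.1 := (Subalgebra.fg_iff_finiteType _).mp i.unop.2
    haveI : IsNoetherianRing i.unop.1 := Algebra.FiniteType.isNoetherianRing Γ(Y, U) _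
    exact inferInstanceAs (IsLocallyNoetherian (Spec (CommRingCat.of i.unop.1)))
  have hstage : Subtr.IsSSubtrusive (pullback.snd (pullback.snd f t)
      (pullback.fst (𝟙 (D.obj i₀)) (c.π.app i₀))) := by
    refine Groth.Agent.S14791.result D c (isLimitFgCone Γ(Y, U) V) i₀ (pullback.snd f t) (𝟙 _)
      ⟨i₀, 𝟙 i₀, fun i φ => ?_⟩
    haveI := hnoeth i
    haveI : IsLocallyNoetherian (pullback (𝟙 (D.obj i₀)) (D.map (φ ≫ 𝟙 i₀))) :=
      isLocallyNoetherian_of_isOpenImmersion (pullback.snd (𝟙 (D.obj i₀)) (D.map (φ ≫ 𝟙 i₀)))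
    exact isSSubtrusive_of_dvrPair (dvrPair_pullback_snd (dvrPair_pullback_snd h t) _)
  let e := pullback.snd (𝟙 (D.obj i₀)) (c.π.app i₀)
  haveI : IsIso e := inferInstance
  have he : pullback.fst (𝟙 (D.obj i₀)) (c.π.app i₀) ≫ t = e ≫ g := by
    rw [← ht, ← Category.assoc e]
    congr 1
    exact (Category.comp_id _).symm.trans pullback.condition
  have hsq : pullback.fst (pullback.snd f t) (pullback.fst (𝟙 (D.obj i₀)) (c.π.app i₀)) ≫ pullback.fst f t ≫ f =
      (pullback.snd (pullback.snd f t) (pullback.fst (𝟙 (D.obj i₀)) (c.π.app i₀)) ≫ e) ≫ g := by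
    rw [pullback.condition, pullback.condition_assoc, he, Category.assoc]
  let μ := hP.lift (pullback.fst (pullback.snd f t) (pullback.fst (𝟙 (D.obj i₀)) (c.π.app i₀)) ≫ pullback.fst f t)
    (pullback.snd (pullback.snd f t) (pullback.fst (𝟙 (D.obj i₀)) (c.π.app i₀)) ≫ e)
    (by rw [Category.assoc]; exact hsq)
  obtain ⟨x, x', hx, hbx, hbx'⟩ := hstage ((gen_specializes (closed V)).map (inv e).continuous)
  refine ⟨μ x, μ x', hx.map μ.continuous, ?_, ?_⟩ <;>
    rw [← Scheme.Hom.comp_apply, IsPullback.lift_snd, Scheme.Hom.comp_apply]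
  · rw [hbx, ← Scheme.Hom.comp_apply, IsIso.inv_hom_id]; rfl
  · rw [hbx', ← Scheme.Hom.comp_apply, IsIso.inv_hom_id]; rfl

end GrothLib.SubtrLim
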