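import Mathlib.RingTheory.ZariskisMainTheorem
import Mathlib.RingTheory.NoetherNormalization
import Mathlib.RingTheory.AlgebraicIndependent.Transcendental
import Mathlib.RingTheory.IntegralClosure.GoingDown
import Mathlib.RingTheory.Polynomial.IsIntegral
import Mathlib.RingTheory.Valuation.ValuationRing
import Mathlib.RingTheory.Flat.TorsionFree
import Mathlib.RingTheory.Jacobson.Ring
import Mathlib.Algebra.GCDMonoid.IntegrallyClosed

/-!
# Quasi-finite multisections over valuation rings

If a finite type algebra `C` over a valuation domain `V` has a pair of primes `P ≤ q` over the generic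
and the closed point, then it has a point with values in the fraction field of a finite torsion free
`V`-algebra `R` specialising, inside a localisation of `R`, into (a closed point above) `q`.
-/

universe u

open MvPolynomial

noncomputable section

namespace GrothLib.SubtrLim

theorem isIntegrallyClosed_mvPolynomial (V : Type u) [CommRing V] [IsDomain V] [IsIntegrallyClosed V] :
    ∀ n : ℕ, IsIntegrallyClosed (MvPolynomial (Fin n) V)
  | 0 => IsIntegrallyClosed.of_equiv (MvPolynomial.isEmptyAlgEquiv V (Fin 0)).symm.toRingEquiv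
  | n + 1 =>
    haveI := isIntegrallyClosed_mvPolynomial V n
    IsIntegrallyClosed.of_equiv (MvPolynomial.finSuccEquiv V n).symm.toRingEquiv

variable {V : Type u} [CommRing V] [IsDomain V] [ValuationRing V]

/-- A nonzero polynomial over a valuation ring is a multiple of one with a unit coefficient. -/
theorem exists_eq_C_mul_primitive {σ : Type*} {p : MvPolynomial σ V} (hp : p ≠ 0) :
    ∃ (c : V) (p₀ : MvPolynomial σ V), c ≠ 0 ∧ p = C c * p₀ ∧ ∃ e, p₀.coeff e = 1 := by
  classical
  have h : ∀ s : Finset (σ →₀ ℕ), s.Nonempty → ∃ e ∈ s, ∀ e' ∈ s, p.coeff e ∣ p.coeff e' := by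
    intro s hs
    induction hs using Finset.Nonempty.cons_induction with
    | singleton a => exact ⟨a, by simp⟩
    | cons a s _ _ ih =>
      obtain ⟨e, he, hes⟩ := ih
      rcases ValuationRing.dvd_total (p.coeff a) (p.coeff e) with h | h
      · exact ⟨a, by simp, fun e' he' => (Finset.mem_cons.mp he').elim (fun x => x ▸ dvd_rfl)
          fun x => h.trans (hes e' x)⟩
      · exact ⟨e, by simp [he], fun e' he' => (Finset.mem_cons.mp he').elim (fun x => x ▸ h) (hes e')⟩
  obtain ⟨e, he, hdvd⟩ := h p.support (MvPolynomial.support_nonempty.mpr hp)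
  have hc : p.coeff e ≠ 0 := MvPolynomial.mem_support_iff.mp he
  obtain ⟨p₀, hp₀⟩ : C (p.coeff e) ∣ p := MvPolynomial.C_dvd_iff_dvd_coeff _ _ |>.mpr fun e' => by
    by_cases he' : e' ∈ p.support
    · exact hdvd e' he'
    · rw [MvPolynomial.notMem_support_iff.mp he']; exact dvd_zero _
  refine ⟨p.coeff e, p₀, hc, hp₀, e, mul_left_cancel₀ hc ?_⟩
  conv_rhs => rw [mul_one, hp₀]
  rw [MvPolynomial.coeff_C_mul]

variable {C' : Type u} [CommRing C'] [IsDomain C'] [Algebra V C']

open IsLocalRing in
/-- **Coordinates at a closed point of the special fibre**: algebraically independent elements of `q`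
over which `C'` is quasi-finite at `q`. -/
theorem exists_coordinates [Algebra.FiniteType V C'] (hinj : Function.Injective (algebraMap V C'))
    (q : Ideal C') [q.IsMaximal] (hq : q.comap (algebraMap V C') = maximalIdeal V) :
    ∃ (n : ℕ) (t : Fin n → C'), (∀ i, t i ∈ q) ∧ AlgebraicIndependent V t ∧
      ∀ P : Ideal C', P.IsPrime → (∀ i, t i ∈ P) → maximalIdeal V ≤ P.comap (algebraMap V C') →
        P.IsMaximal ∧ {P' : Ideal C' | P'.IsPrime ∧ (∀ i, t i ∈ P') ∧
          maximalIdeal V ≤ P'.comap (algebraMap V C')}.Finite := by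
  classical
  let k := V ⧸ maximalIdeal V
  letI : Field k := Ideal.Quotient.field _
  let I := (maximalIdeal V).map (algebraMap V C')
  have hIq : I ≤ q := Ideal.map_le_iff_le_comap.mpr hq.ge
  let Ck := C' ⧸ I
  haveI : Nontrivial Ck := Ideal.Quotient.nontrivial_iff.mpr fun h => Ideal.IsMaximal.ne_top ‹_›
    (top_le_iff.mp (h ▸ hIq))
  letI : Algebra k Ck := (Ideal.Quotient.lift (maximalIdeal V)
    ((Ideal.Quotient.mk I).comp (algebraMap V C')) fun v hv => by
      rw [RingHom.comp_apply, Ideal.Quotient.eq_zero_iff_mem]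
      exact Ideal.mem_map_of_mem _ hv).toAlgebra
  haveI : IsScalarTower V k Ck := IsScalarTower.of_algebraMap_eq fun v => rfl
  haveI : Algebra.FiniteType k Ck :=
    Algebra.FiniteType.of_restrictScalars_finiteType V k Ck
  obtain ⟨n, g, hg, hgf⟩ := exists_finite_inj_algHom_of_fg k Ck
  choose t₀ ht₀ using fun i => Ideal.Quotient.mk_surjective (g (X i))
  -- `t₀` is algebraically independent
  have hind : AlgebraicIndependent V t₀ := by
    rw [algebraicIndependent_iff_injective_aeval, injective_iff_map_eq_zero]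
    intro p hp
    by_contra h
    obtain ⟨c, p₀, hc, rfl, e, he⟩ := exists_eq_C_mul_primitive h
    rw [map_mul, aeval_C, mul_eq_zero] at hp
    have h0 : aeval t₀ p₀ = 0 := hp.resolve_left fun h0 => hc (hinj (h0.trans (map_zero _).symm))
    have hgp : g (MvPolynomial.map (Ideal.Quotient.mk (maximalIdeal V)) p₀) = 0 := by
      have hcomp : ∀ p : MvPolynomial (Fin n) V,
          g (MvPolynomial.map (Ideal.Quotient.mk (maximalIdeal V)) p) = Ideal.Quotient.mk I (aeval t₀ p) := by
        intro p
        induction p using MvPolynomial.induction_on with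
        | C a => simp; rfl
        | add a b ha hb => simp [ha, hb]
        | mul_X a i ha => simp [ha, ← ht₀]
      rw [hcomp, h0, map_zero]
    have h1 := congr(MvPolynomial.coeff e $(hg (hgp.trans (map_zero g).symm)))
    rw [MvPolynomial.coeff_map, he, map_one, MvPolynomial.coeff_zero] at h1
    exact one_ne_zero h1
  -- minimal polynomials at `q`
  let qk : Ideal Ck := q.map (Ideal.Quotient.mk I)
  haveI : qk.IsMaximal := Ideal.IsMaximal.map_of_surjective_of_ker_le Ideal.Quotient.mk_surjective
    (by rwa [Ideal.mk_ker])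
  letI : Field (Ck ⧸ qk) := Ideal.Quotient.field _
  haveI : Module.Finite k (Ck ⧸ qk) := finite_of_finite_type_of_isJacobsonRing k _
  let μ : Fin n → Polynomial k := fun i => minpoly k (Ideal.Quotient.mk qk (g (X i)))
  have hμm : ∀ i, (μ i).Monic := fun i => minpoly.monic (Algebra.IsIntegral.isIntegral _)
  have hμd : ∀ i, 0 < (μ i).natDegree := fun i => minpoly.natDegree_pos (Algebra.IsIntegral.isIntegral _)
  choose G hG hGd hGm using fun i => Polynomial.lifts_and_natDegree_eq_and_monic
    (Polynomial.mem_lifts_of_surjective (f := Ideal.Quotient.mk (maximalIdeal V)) Ideal.Quotient.mk_surjective (μ i)) (hμm i)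
  let t : Fin n → C' := fun i => Polynomial.aeval (t₀ i) (G i)
  have hmk : ∀ i, Ideal.Quotient.mk I (t i) = Polynomial.aeval (g (X i)) (μ i) := fun i => by
    simp only [t, ← hG i, Polynomial.aeval_def, Polynomial.eval₂_map, Polynomial.hom_eval₂, ht₀]
    rfl
  refine ⟨n, t, fun i => ?_, hind.polynomial_aeval_of_transcendental fun i => ?_, fun P hP hPt hPm => ?_⟩
  · have h : Ideal.Quotient.mk I (t i) ∈ qk := by
      rw [hmk, ← Ideal.Quotient.eq_zero_iff_mem, ← Ideal.Quotient.mkₐ_eq_mk k,
        ← Polynomial.aeval_algHom_apply]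
      exact minpoly.aeval k (Ideal.Quotient.mk qk (g (X i)))
    obtain ⟨y, hy, hy'⟩ := (Ideal.mem_map_iff_of_surjective _ Ideal.Quotient.mk_surjective).mp h
    exact (Submodule.sub_mem_iff_right q hy).mp (hIq (Ideal.Quotient.eq.mp hy'))
  · rintro ⟨r, hr, hr0⟩
    have hd : 1 ≤ (G i).natDegree := by rw [hGd]; exact hμd i
    have := congrArg Polynomial.natDegree hr0
    change (r.comp (G i)).natDegree = _ at this
    rw [Polynomial.natDegree_comp, Polynomial.natDegree_zero, mul_eq_zero] at this
    rcases this with h | h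
    · obtain ⟨a, rfl⟩ := Polynomial.natDegree_eq_zero.mp h
      rw [Polynomial.aeval_C] at hr0
      exact hr (by rw [Polynomial.C_eq_zero]; exact Polynomial.C_injective (hr0.trans (map_zero _).symm))
    · omega
  -- the fibre is finite over `k`
  let J : Ideal Ck := Ideal.span (Set.range fun i => Polynomial.aeval (g (X i)) (μ i))
  haveI : Algebra.IsIntegral k (Ck ⧸ J) := by
    refine ⟨fun x => ?_⟩
    let π : MvPolynomial (Fin n) k →ₐ[k] Ck ⧸ J := (Ideal.Quotient.mkₐ k J).comp g
    have hπ : ∀ p, IsIntegral k (π p) := fun p => by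
      induction p using MvPolynomial.induction_on with
      | C a => rw [← MvPolynomial.algebraMap_eq, AlgHom.commutes]; exact isIntegral_algebraMap
      | add a b ha hb => rw [map_add]; exact ha.add hb
      | mul_X a i ha =>
        rw [map_mul]
        refine ha.mul ⟨μ i, hμm i, ?_⟩
        rw [← Polynomial.aeval_def]
        show Polynomial.aeval (Ideal.Quotient.mkₐ k J (g (X i))) (μ i) = 0
        rw [Polynomial.aeval_algHom_apply, Ideal.Quotient.mkₐ_eq_mk, Ideal.Quotient.eq_zero_iff_mem]
        exact Ideal.subset_span ⟨i, rfl⟩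
    obtain ⟨x, rfl⟩ := Ideal.Quotient.mk_surjective x
    letI := g.toRingHom.toAlgebra
    haveI : Module.Finite (MvPolynomial (Fin n) k) Ck := hgf
    have hx : IsIntegral (MvPolynomial (Fin n) k) x := Algebra.IsIntegral.isIntegral x
    letI := π.toRingHom.toAlgebra
    haveI : IsScalarTower k (MvPolynomial (Fin n) k) (Ck ⧸ J) :=
      IsScalarTower.of_algebraMap_eq fun a => (π.commutes a).symm
    have hx' : IsIntegral (MvPolynomial (Fin n) k) (Ideal.Quotient.mk J x) := by
      obtain ⟨p, hp, hpx⟩ := hx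
      exact ⟨p, hp, (Polynomial.hom_eval₂ p (algebraMap _ Ck) (Ideal.Quotient.mk J) x).symm.trans
        (by rw [hpx, map_zero])⟩
    let A : Subalgebra k (Ck ⧸ J) := π.range
    haveI : Algebra.IsIntegral k A := ⟨fun a => by
      obtain ⟨p, hp⟩ := a.2
      refine (isIntegral_algHom_iff A.val Subtype.val_injective).mp ?_
      show IsIntegral k (a : Ck ⧸ J)
      rw [← hp]
      exact hπ p⟩
    refine isIntegral_trans (A := A) _ ?_
    obtain ⟨p, hp, hpx⟩ := hx'
    refine ⟨p.map π.rangeRestrict.toRingHom, hp.map _, ?_⟩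
    rw [Polynomial.eval₂_map]
    exact hpx
  haveI : Module.Finite k (Ck ⧸ J) := Algebra.IsIntegral.finite
  haveI : IsArtinianRing (Ck ⧸ J) := IsArtinianRing.of_finite k _
  let ρ := (Ideal.Quotient.mk J).comp (Ideal.Quotient.mk I)
  have hρ : Function.Surjective ρ := Ideal.Quotient.mk_surjective.comp Ideal.Quotient.mk_surjective
  have hker : ∀ P : Ideal C', (∀ i, t i ∈ P) → maximalIdeal V ≤ P.comap (algebraMap V C') →
      RingHom.ker ρ ≤ P := by
    intro P h1 h2 y hy
    have hJ : J ≤ P.map (Ideal.Quotient.mk I) := Ideal.span_le.mpr (by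
      rintro - ⟨i, rfl⟩
      rw [SetLike.mem_coe]
      beta_reduce
      rw [← hmk]
      exact Ideal.mem_map_of_mem _ (h1 i))
    have hy' := hJ (Ideal.Quotient.eq_zero_iff_mem.mp hy)
    obtain ⟨z, hz, hzy⟩ := (Ideal.mem_map_iff_of_surjective _ Ideal.Quotient.mk_surjective).mp hy'
    exact (Submodule.sub_mem_iff_right P hz).mp
      ((Ideal.map_le_iff_le_comap.mpr h2) (Ideal.Quotient.eq.mp hzy))
  refine ⟨?_, ?_⟩
  · haveI := hP
    haveI := Ideal.map_isPrime_of_surjective hρ (hker P hPt hPm)
    have hmax : (P.map ρ).IsMaximal := inferInstance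
    have := Ideal.comap_isMaximal_of_surjective ρ hρ (K := P.map ρ)
    rwa [Ideal.comap_map_of_surjective _ hρ, ← RingHom.ker_eq_comap_bot,
      sup_eq_left.mpr (hker P hPt hPm)] at this
  · refine Set.Finite.subset ((Set.finite_univ (α := PrimeSpectrum (Ck ⧸ J))).image
      fun x => x.asIdeal.comap ρ) fun P' hP' => ?_
    obtain ⟨h1, h2, h3⟩ := hP'
    haveI := h1
    refine ⟨⟨P'.map ρ, Ideal.map_isPrime_of_surjective hρ (hker P' h2 h3)⟩, Set.mem_univ _, ?_⟩
    show (P'.map ρ).comap ρ = P'
    rw [Ideal.comap_map_of_surjective _ hρ, ← RingHom.ker_eq_comap_bot, sup_eq_left.mpr (hker P' h2 h3)]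

open IsLocalRing in
/-- **Quasi-finite multisections.** -/
theorem exists_multisection [Algebra.FiniteType V C'] (hinj : Function.Injective (algebraMap V C'))
    (q : Ideal C') [q.IsMaximal] (hq : q.comap (algebraMap V C') = maximalIdeal V) :
    ∃ (R : Type u) (_ : CommRing R) (_ : IsDomain R) (_ : Algebra V R) (_ : Module.Finite V R)
      (_ : FaithfulSMul V R) (n : Ideal R) (s : R) (φ : C' →ₐ[V] FractionRing R),
      n.IsPrime ∧ n.comap (algebraMap V R) = maximalIdeal V ∧ s ∉ n ∧
      ∀ x, ∃ (N : ℕ) (y : R), algebraMap R (FractionRing R) y = algebraMap R _ s ^ N * φ x ∧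
        (x ∈ q → y ∈ n) := by
  classical
  obtain ⟨n, t, htq, hind, hfib⟩ := exists_coordinates hinj q hq
  let T := MvPolynomial (Fin n) V
  haveI : IsIntegrallyClosed T := isIntegrallyClosed_mvPolynomial V n
  letI : Algebra T C' := (aeval t : T →ₐ[V] C').toRingHom.toAlgebra
  haveI : IsScalarTower V T C' := IsScalarTower.of_algebraMap_eq fun v => ((aeval t).commutes v).symm
  haveI : Algebra.FiniteType T C' := Algebra.FiniteType.of_restrictScalars_finiteType V T C'
  haveI : Algebra.QuasiFiniteAt T q := by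
    let qp : PrimeSpectrum C' := ⟨q, inferInstance⟩
    let F : Set (PrimeSpectrum C') :=
      PrimeSpectrum.comap (algebraMap T C') ⁻¹' {PrimeSpectrum.comap (algebraMap T C') qp}
    have hF : ∀ x ∈ F, (∀ i, t i ∈ x.asIdeal) ∧ maximalIdeal V ≤ x.asIdeal.comap (algebraMap V C') := by
      intro x hx
      have hx' : x.asIdeal.comap (algebraMap T C') = q.comap (algebraMap T C') :=
        congrArg PrimeSpectrum.asIdeal (hx : PrimeSpectrum.comap (algebraMap T C') x = _)
      refine ⟨fun i => ?_, fun v hv => ?_⟩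
      · have h : (X i : T) ∈ x.asIdeal.comap (algebraMap T C') := by
          rw [hx', Ideal.mem_comap]
          show aeval t (X i) ∈ q
          rw [aeval_X]; exact htq i
        have : aeval t (X i) ∈ x.asIdeal := h
        rwa [aeval_X] at this
      · have h : algebraMap V T v ∈ x.asIdeal.comap (algebraMap T C') := by
          rw [hx', Ideal.mem_comap, ← IsScalarTower.algebraMap_apply]
          exact hq.ge hv
        rw [Ideal.mem_comap, ← IsScalarTower.algebraMap_apply] at h
        exact h
    haveI : Finite F := by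
      obtain ⟨-, hfin⟩ := hfib q inferInstance htq hq.ge
      refine Set.Finite.to_subtype (Set.Finite.of_finite_image
        (Set.Finite.subset hfin ?_) (Set.injOn_of_injective fun a b h => PrimeSpectrum.ext h))
      rintro - ⟨x, hx, rfl⟩
      exact ⟨x.2, hF x hx⟩
    haveI : T1Space F := ⟨fun x => by
      have hx := (PrimeSpectrum.isClosed_singleton_iff_isMaximal x.1).mpr
        (hfib _ x.1.2 (hF _ x.2).1 (hF _ x.2).2).1
      convert hx.preimage continuous_subtype_val
      ext z
      simp [Subtype.ext_iff]⟩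
    exact Algebra.QuasiFiniteAt.of_isOpen_singleton_fiber qp (isOpen_discrete _)
  obtain ⟨S', hS'fg, r, hrq, hbij⟩ := Algebra.QuasiFiniteAt.exists_fg_and_exists_notMem_and_awayMap_bijective (R := T) q
  haveI : Module.Finite T S' := Module.Finite.iff_fg.mpr hS'fg
  haveI : Algebra.IsIntegral T S' := inferInstance
  haveI : FaithfulSMul T S' := (faithfulSMul_iff_algebraMap_injective _ _).mpr fun a b h => by
    exact hind (congrArg Subtype.val h :)
  let qS : Ideal S' := q.comap S'.val.toRingHom
  let P₀ : Ideal T := RingHom.ker (aeval (fun _ => (0 : V)) : T →ₐ[V] V).toRingHom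
  haveI : P₀.IsPrime := RingHom.ker_isPrime _
  have hP₀ : P₀ ≤ qS.under T := fun p hp => by
    show aeval t p ∈ q
    let π := Ideal.Quotient.mkₐ V q
    rw [← Ideal.Quotient.eq_zero_iff_mem]
    show π (aeval t p) = 0
    rw [← AlgHom.comp_apply, comp_aeval]
    have hz : (fun i => π (t i)) = fun i => Algebra.ofId V (C' ⧸ q) ((fun _ => (0 : V)) i) := by
      funext i; rw [map_zero]; exact Ideal.Quotient.eq_zero_iff_mem.mpr (htq i)
    rw [hz, ← comp_aeval]
    simp only [AlgHom.comp_apply]
    rw [show aeval (fun _ => (0 : V)) p = 0 from hp, map_zero]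
  obtain ⟨Q, hQle, hQprime, hQ⟩ := Ideal.exists_ideal_le_liesOver_of_le (p := P₀) qS hP₀
  haveI := hQprime
  let R := S' ⧸ Q
  haveI : Module.Finite V R := by
    haveI : Module.Finite T R := Module.Finite.quotient T Q
    obtain ⟨gs, hgs⟩ := Module.Finite.fg_top (R := T) (M := R)
    refine ⟨⟨gs, top_le_iff.mp fun x hxt => ?_⟩⟩
    clear hxt
    have hx : x ∈ Submodule.span T (gs : Set R) := hgs ▸ trivial
    induction hx using Submodule.span_induction with
    | mem y hy => exact Submodule.subset_span hy
    | zero => exact zero_mem _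
    | add y z _ _ hy hz => exact add_mem hy hz
    | smul p y _ hy =>
      have hp : p - algebraMap V T (aeval (fun _ => (0 : V)) p) ∈ P₀ := by
        show aeval (fun _ => (0 : V)) _ = (0 : V)
        rw [map_sub, AlgHom.commutes]
        exact sub_self _
      have h0 : (p - algebraMap V T (aeval (fun _ => (0 : V)) p)) • y = 0 := by
        obtain ⟨y, rfl⟩ := Ideal.Quotient.mk_surjective y
        rw [Algebra.smul_def, IsScalarTower.algebraMap_apply T S' R, Ideal.Quotient.algebraMap_eq,
          ← map_mul, Ideal.Quotient.eq_zero_iff_mem]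
        exact Ideal.mul_mem_right _ _ (hQ.over.le hp)
      rw [sub_smul, sub_eq_zero, algebraMap_smul] at h0
      rw [h0]
      exact Submodule.smul_mem _ _ hy
  haveI : FaithfulSMul V R := (faithfulSMul_iff_algebraMap_injective _ _).mpr <| by
    rw [injective_iff_map_eq_zero]
    intro v hv
    rw [IsScalarTower.algebraMap_apply V S' R, Ideal.Quotient.algebraMap_eq,
      Ideal.Quotient.eq_zero_iff_mem, IsScalarTower.algebraMap_apply V T S'] at hv
    have : algebraMap V T v ∈ P₀ := hQ.over.ge hv
    have h2 : aeval (fun _ : Fin n => (0 : V)) (algebraMap V T v) = 0 := this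
    rw [AlgHom.commutes] at h2
    exact h2
  let nR : Ideal R := qS.map (Ideal.Quotient.mk Q)
  haveI hnR : nR.IsPrime := Ideal.map_isPrime_of_surjective Ideal.Quotient.mk_surjective
    (by rw [Ideal.mk_ker]; exact hQle)
  have hmem : ∀ y : S', Ideal.Quotient.mk Q y ∈ nR ↔ (y : C') ∈ q := fun y => by
    refine ⟨fun h => ?_, fun h => Ideal.mem_map_of_mem _ h⟩
    obtain ⟨z, hz, hzy⟩ := (Ideal.mem_map_iff_of_surjective _ Ideal.Quotient.mk_surjective).mp h
    exact (Submodule.sub_mem_iff_right qS hz).mp (hQle (Ideal.Quotient.eq.mp hzy))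
  let L := FractionRing R
  let ι : S' →ₐ[V] L := (IsScalarTower.toAlgHom V R L).comp ((Ideal.Quotient.mkₐ T Q).restrictScalars V)
  have hs : Ideal.Quotient.mk Q r ∉ nR := fun h => hrq ((hmem r).mp h)
  have hs0 : IsUnit (ι r) := by
    refine IsUnit.mk0 _ fun h => hs ?_
    have := (IsFractionRing.injective R L) (h.trans (map_zero _).symm)
    rw [show Ideal.Quotient.mk Q r = 0 from this]
    exact zero_mem _
  have hex : ∀ x : C', ∃ (N : ℕ) (y : S'), (r : C') ^ N * x = y := by
    intro x
    obtain ⟨z, hz⟩ := hbij.2 (algebraMap C' _ x)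
    obtain ⟨y, ⟨-, N, rfl⟩, rfl⟩ := IsLocalization.exists_mk'_eq (Submonoid.powers r) z
    refine ⟨N, y, ?_⟩
    rw [Localization.awayMap, IsLocalization.Away.map, IsLocalization.map_mk',
      IsLocalization.mk'_eq_iff_eq_mul, ← map_mul] at hz
    obtain ⟨⟨-, M, rfl⟩, hM⟩ := (IsLocalization.eq_iff_exists (Submonoid.powers (S'.val.toRingHom r)) _).mp hz
    have hr0 : (r : C') ≠ 0 := fun h => hrq (h ▸ zero_mem q)
    have := mul_left_cancel₀ (pow_ne_zero M hr0) hM
    simp only [map_pow] at this
    rw [mul_comm]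
    exact this.symm
  choose N y hy using hex
  have hφ0 : ∀ x, ι (y x) * (↑(hs0.pow (N x)).unit⁻¹ : L) * ι r ^ N x = ι (y x) := fun x => by
    rw [mul_assoc, IsUnit.val_inv_mul, mul_one]
  let φf : C' → L := fun x => ι (y x) * (↑(hs0.pow (N x)).unit⁻¹ : L)
  have hφ : ∀ (x : C') (M : ℕ) (z : S'), (r : C') ^ M * x = z → ι r ^ M * φf x = ι z := fun x M z hz => by
    refine (hs0.pow (N x)).mul_left_cancel ?_
    have : r ^ M * y x = r ^ N x * z := Subtype.ext (by
      push_cast; rw [← hy x, ← hz]; ring)
    have h2 := congrArg ι this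
    simp only [map_mul, map_pow] at h2
    calc ι r ^ N x * (ι r ^ M * φf x) = ι r ^ M * (φf x * ι r ^ N x) := by ring
      _ = ι r ^ N x * ι z := by rw [hφ0 x, h2]
  have hφ' : ∀ (x : C') (M : ℕ) (z : S') (a : L), (r : C') ^ M * x = z → ι r ^ M * a = ι z → φf x = a :=
    fun x M z a h1 h2 => (hs0.pow M).mul_left_cancel ((hφ x M z h1).trans h2.symm)
  let φ : C' →ₐ[V] L :=
    { toFun := φf
      map_one' := hφ' 1 0 1 1 (by simp) (by simp)
      map_mul' := fun a b => hφ' (a * b) (N a + N b) (y a * y b) _
        (by push_cast; rw [← hy a, ← hy b]; ring)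
        (by rw [map_mul, ← hφ a _ _ (hy a), ← hφ b _ _ (hy b)]; ring)
      map_zero' := hφ' 0 0 0 0 (by simp) (by simp)
      map_add' := fun a b => hφ' (a + b) (N a + N b) (r ^ N b * y a + r ^ N a * y b) _
        (by push_cast; rw [← hy a, ← hy b]; ring)
        (by simp only [map_add, map_mul, map_pow, ← hφ a _ _ (hy a), ← hφ b _ _ (hy b)]; ring)
      commutes' := fun v => hφ' _ 0 (algebraMap V S' v) _
        (by simp [IsScalarTower.algebraMap_apply V T C']) (by simp) }
  refine ⟨R, inferInstance, inferInstance, inferInstance, inferInstance, inferInstance, nR,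
    Ideal.Quotient.mk Q r, φ, hnR, ?_, hs, fun x => ⟨N x, Ideal.Quotient.mk Q (y x), ?_, fun hx => ?_⟩⟩
  · ext v
    rw [Ideal.mem_comap, IsScalarTower.algebraMap_apply V S' R, Ideal.Quotient.algebraMap_eq, hmem,
      show ((algebraMap V S' v : S') : C') = algebraMap V C' v from
        (IsScalarTower.toAlgHom V S' C').commutes v, ← hq, Ideal.mem_comap]
  · exact (hφ x _ _ (hy x)).symm
  · rw [hmem, ← hy]
    exact Ideal.mul_mem_left _ _ hx

end GrothLib.SubtrLim
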