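import Groth.Agent.S14788
import Groth.Agent.S19530

/-!
# Local closedness descends along universally subtrusive morphisms
-/

set_option backward.isDefEq.respectTransparency false

universe u

open CategoryTheory AlgebraicGeometry GrothLib.Constr

namespace GrothLib.SubtrLim

variable {X : Scheme.{u}}

/-- An intersection of pro-constructible sets is pro-constructible. -/
theorem isProConstructible_sInter {S : Set (Set X)} (h : ∀ T ∈ S, ProCons.IsProConstructible T) :
    ProCons.IsProConstructible (⋂₀ S) := by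
  refine isProConstructible_of_forall fun x => ?_
  obtain ⟨V, hV, hxV, -⟩ := exists_affine_nhd x isOpen_univ (Set.mem_univ x)
  haveI := compactSpace_of_isAffineOpen hV
  haveI := quasiSeparatedSpace_of_isAffineOpen hV
  refine ⟨V, hxV, inferInstance, inferInstance, ?_⟩
  rw [Set.preimage_sInter]
  exact @isClosed_biInter _ _ (constructibleTopology (V : Set X)) _ _
    fun T hT => isClosed_preimage_of_isProConstructible (h T hT) V

/-- A closed set is pro-constructible. -/
theorem isProConstructible_of_isClosed {C : Set X} (hC : IsClosed C) : ProCons.IsProConstructible C :=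
  isProConstructible_iff_compl.2 (isIndConstructible_of_isOpen hC.isOpen_compl)

variable {Y : Scheme.{u}} (f : X ⟶ Y) [QuasiCompact f] (hf : Subtr.UnivSSubtrusive f) {E : Set Y}

include hf in
theorem isLocallyClosed_of_preimage
    (H : ∀ z ∈ closure E, ∃ w, w ⤳ z ∧ f ⁻¹' {w} ⊆ closure (f ⁻¹' E))
    (hE : IsLocallyClosed (f ⁻¹' E)) : IsLocallyClosed E := by
  obtain ⟨O, C, hO, hC, hOC⟩ := hE
  have hXC : closure (f ⁻¹' E) ⊆ C := closure_minimal (hOC.le.trans Set.inter_subset_right) hC
  have hsS : Subtr.IsSSubtrusive f := hf (𝟙 X) (𝟙 _) f (IsPullback.of_vert_isIso ⟨by simp⟩)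
  let Dd := closure (f ⁻¹' E) ∩ Oᶜ
  let F := f '' Dd
  have hF : ProCons.IsProConstructible F :=
    isProConstructible_image f (isProConstructible_of_isClosed (isClosed_closure.inter hO.isClosed_compl))
  refine ⟨(closure F)ᶜ, closure E, isClosed_closure.isOpen_compl, isClosed_closure, ?_⟩
  ext e
  refine ⟨fun he => ⟨fun heF => ?_, subset_closure he⟩, fun ⟨heF, he⟩ => ?_⟩
  · obtain ⟨z, ⟨d, ⟨hd, hdO⟩, hdz⟩, hze⟩ := Groth.Agent.S14788.exists_mem_specializes hF heF
    have hz : z ∈ closure E := hdz ▸
      (closure_mono (Set.image_preimage_subset f E)) (image_closure_subset_closure_image f.continuous ⟨d, hd, rfl⟩)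
    obtain ⟨w, hwz, hw⟩ := H z hz
    obtain ⟨a, ha, hfa⟩ := Groth.Agent.S19530.result f hf 2 ![w, z, e] (by
      intro i j hij
      fin_cases i <;> fin_cases j <;>
        first
        | exact specializes_rfl
        | exact hwz
        | exact hze
        | exact hwz.trans hze
        | exact absurd hij (by decide))
    have h0 : a 0 ∈ closure (f ⁻¹' E) := hw (hfa 0)
    have h1 : a 1 ∈ C := hC.stableUnderSpecialization (ha 0 1 (by decide)) (hXC h0)
    have hfa2 : f (a 2) = e := hfa 2
    have h2 : a 2 ∈ O := (hOC.le (show a 2 ∈ f ⁻¹' E by rw [Set.mem_preimage, hfa2]; exact he)).1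
    have hzE : a 1 ∈ f ⁻¹' E := hOC.ge ⟨(ha 1 2 (by decide)).mem_open hO h2, h1⟩
    have hfa1 : f (a 1) = z := hfa 1
    rw [Set.mem_preimage, hfa1, ← hdz] at hzE
    exact hdO (hOC.le hzE).1
  · obtain ⟨w, hwe, hw⟩ := H e he
    obtain ⟨x, x', hx, hfx, hfx'⟩ := hsS hwe
    have hxcl : x ∈ closure (f ⁻¹' E) := isClosed_closure.stableUnderSpecialization hx (hw hfx')
    by_contra hne
    refine heF (subset_closure ⟨x, ⟨hxcl, fun hxO => hne ?_⟩, hfx⟩)
    have := hOC.ge ⟨hxO, hXC hxcl⟩
    rwa [Set.mem_preimage, hfx] at this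

end GrothLib.SubtrLim
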