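import Groth.Agent.Lib.SubtrLim.Global

/-!
# Descent of `ValPair` and `ValGen` along a limit with affine transition maps
-/

set_option backward.isDefEq.respectTransparency false
set_option linter.style.haveILetI false

universe u

open CategoryTheory CategoryTheory.Limits AlgebraicGeometry IsLocalRing GrothLib.HTop GrothLib.LimDesc

noncomputable section

namespace GrothLib.SubtrLim

variable {I : Type u} [SmallCategory I] [IsCofiltered I] (D : I ⥤ Scheme.{u}) {c : Cone D} (hc : IsLimit c)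
  [∀ (i j : I) (a : i ⟶ j), IsAffineHom (D.map a)] {i₀ : I}
  {X₀ Y₀ : Scheme.{u}} (f₀ : X₀ ⟶ Y₀) (g₀ : Y₀ ⟶ D.obj i₀)

/-- A property of valuation-ring points of an affine open of `Y₀` descends along the limit. -/
def DescendsAt (P : ∀ {U : Y₀.Opens}, AffChart f₀ U → ∀ (V : Type u) [CommRing V] [IsDomain V]
    [ValuationRing V], (Γ(Y₀, U) →+* V) → Prop) : Prop :=
  ∀ {U : Y₀.Opens} (C : AffChart f₀ U) (E : Over i₀ ⥤ Scheme.{u}) [∀ j, IsAffine (E.obj j)] (cE : Cone E),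
    IsLimit cE → ∀ (q₀ : E.obj (Over.mk (𝟙 i₀)) ⟶ Spec Γ(Y₀, U)),
    (∀ (V : Type u) [CommRing V] [IsDomain V] [ValuationRing V] (α : Γ(Y₀, U) →+* V)
      (x : Spec (CommRingCat.of V) ⟶ cE.pt),
      x ≫ cE.π.app (Over.mk (𝟙 i₀)) ≫ q₀ = Spec.map (CommRingCat.ofHom α) → P C V α) →
    ∃ (j : Over i₀) (φ : j ⟶ Over.mk (𝟙 i₀)), ∀ (V : Type u) [CommRing V] [IsDomain V] [ValuationRing V]
      (α : Γ(Y₀, U) →+* V) (x : Spec (CommRingCat.of V) ⟶ E.obj j),
      x ≫ E.map φ ≫ q₀ = Spec.map (CommRingCat.ofHom α) → P C V α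

variable [QuasiCompact f₀] [LocallyOfFinitePresentation f₀] [CompactSpace Y₀]

include hc in
/-- One stage working for all the charts of a finite affine cover. -/
theorem exists_stage_points
    (P : ∀ {U : Y₀.Opens}, AffChart f₀ U → ∀ (V : Type u) [CommRing V] [IsDomain V] [ValuationRing V],
      (Γ(Y₀, U) →+* V) → Prop)
    (hP : DescendsAt (i₀ := i₀) f₀ P)
    {X Y : Scheme.{u}} {f : X ⟶ Y} {g : Y ⟶ c.pt} {qY : Y ⟶ Y₀} {qX : X ⟶ X₀}
    (hY : IsPullback qY g g₀ (c.π.app i₀)) (hX : IsPullback qX f f₀ qY)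
    (hlim : ∀ {U : Y₀.Opens} (C : AffChart f₀ U) (V : Type u) [CommRing V] [IsDomain V] [ValuationRing V]
      (α : Γ(Y₀, U) →+* V) (x : Spec (CommRingCat.of V) ⟶ Y),
      x ≫ qY = Spec.map (CommRingCat.ofHom α) ≫ C.hU.fromSpec → P C V α) :
    ∃ k : Over i₀, ∀ (V : CommRingCat.{u}) [IsDomain V] [ValuationRing V]
      (w : Spec V ⟶ (diag D i₀ g₀).obj k),
      ∃ (U : Y₀.Opens) (C : AffChart f₀ U) (α : Γ(Y₀, U) →+* V),
        w ≫ pullback.fst g₀ (D.map k.hom) = Spec.map (CommRingCat.ofHom α) ≫ C.hU.fromSpec ∧ P C V α := by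
  obtain ⟨s, hs⟩ := isCompact_univ.elim_finite_subcover
    (fun U : Y₀.affineOpens => (U.1 : Set Y₀)) (fun U => U.1.2) (fun x _ => by
      have := (iSup_affineOpens_eq_top Y₀).ge (Set.mem_univ x)
      simpa using this)
  let top : Over i₀ := Over.mk (𝟙 i₀)
  have hstage : ∀ U : {U // U ∈ s}, ∃ (C : AffChart f₀ U.1.1) (j : Over i₀),
      ∀ (V : Type u) [CommRing V] [IsDomain V] [ValuationRing V] (α : Γ(Y₀, U.1.1) →+* V)
        (y : Spec (CommRingCat.of V) ⟶ D.obj j.left),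
        (Spec.map (CommRingCat.ofHom α) ≫ C.hU.fromSpec) ≫ g₀ = y ≫ D.map j.hom → P C V α := by
    intro U
    obtain ⟨C⟩ := exists_affChart f₀ U.1.2
    haveI : IsAffine U.1.1.toScheme := U.1.2
    let a := U.1.1.ι ≫ g₀
    let E := diag D i₀ a
    haveI : ∀ j, IsAffine (E.obj j) := fun j => isAffine_of_isAffineHom (pullback.fst a (D.map j.hom))
    have hPU : IsPullback (qY ∣_ U.1.1) ((qY ⁻¹ᵁ U.1.1).ι ≫ g) a (c.π.app i₀) :=
      (isPullback_morphismRestrict qY U.1.1).paste_vert hY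
    obtain ⟨j, φ, hj⟩ := hP C E (LimDesc.cone D i₀ a hPU) (isLimitCone D i₀ a hPU hc)
      (pullback.fst a (D.map top.hom) ≫ C.hU.isoSpec.hom) fun V _ _ _ α x hx => by
        refine hlim C V α (x ≫ (qY ⁻¹ᵁ U.1.1).ι) ?_
        have : x ≫ qY ∣_ U.1.1 = Spec.map (CommRingCat.ofHom α) ≫ C.hU.isoSpec.inv := by
          rw [← hx]
          simp only [Category.assoc, Iso.hom_inv_id, Category.comp_id]
          exact congrArg (x ≫ ·) (π_fst D i₀ a hPU top).symm
        rw [Category.assoc, ← morphismRestrict_ι, ← Category.assoc, this, Category.assoc]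
        rfl
    refine ⟨C, j, fun V _ _ _ α y hy => ?_⟩
    refine hj V α (pullback.lift (Spec.map (CommRingCat.ofHom α) ≫ C.hU.isoSpec.inv) y ?_) ?_
    · rw [← hy]
      simp only [a, Category.assoc]
      rfl
    · rw [map_fst_assoc, pullback.lift_fst_assoc, Category.assoc, Iso.inv_hom_id, Category.comp_id]
  choose C jU hjU using hstage
  obtain ⟨k, -, φU, -⟩ := IsCofiltered.wideCospan (I := {U // U ∈ s}) (i := top)
    (fun U => (Over.homMk (jU U).hom : jU U ⟶ top))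
  refine ⟨k, fun V _ _ w => ?_⟩
  let w₀ := w ≫ pullback.fst g₀ (D.map k.hom)
  obtain ⟨U, hUs, hU⟩ := Set.mem_iUnion₂.mp (hs (Set.mem_univ (w₀ (closed V))))
  obtain ⟨l, hl⟩ := exists_lift_of_closed_mem w₀ U.1.ι (by rw [Scheme.Opens.range_ι]; exact hU)
  let U' : {U // U ∈ s} := ⟨U, hUs⟩
  let α := (Spec.preimage (l ≫ (C U').hU.isoSpec.hom)).hom
  have hα : Spec.map (CommRingCat.ofHom α) ≫ (C U').hU.fromSpec = w₀ := by
    rw [← hl, show CommRingCat.ofHom α = Spec.preimage (l ≫ (C U').hU.isoSpec.hom) from rfl,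
      Spec.map_preimage, IsAffineOpen.fromSpec, Category.assoc, Iso.hom_inv_id_assoc]
  refine ⟨U.1, C U', α, hα.symm, hjU U' V α (w ≫ pullback.snd g₀ (D.map k.hom) ≫ D.map (φU U').left) ?_⟩
  rw [hα]
  simp only [w₀, Category.assoc, pullback.condition, ← D.map_comp, Over.w (φU U')]

theorem descendsAt_pairAt : DescendsAt (i₀ := i₀) f₀ fun C V _ _ _ α => PairAt C.f V α :=
  fun C E _ _ hcE q₀ h => exists_stage_pairAt E hcE _ q₀ C.f h

theorem descendsAt_genAt : DescendsAt (i₀ := i₀) f₀ fun C V _ _ _ α => GenAt C.f V α :=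
  fun C E _ _ hcE q₀ h => exists_stage_genAt E hcE _ q₀ C.f h

include hc in
theorem exists_valPair {X Y : Scheme.{u}} {f : X ⟶ Y} {g : Y ⟶ c.pt} {qY : Y ⟶ Y₀} {qX : X ⟶ X₀}
    (hY : IsPullback qY g g₀ (c.π.app i₀)) (hX : IsPullback qX f f₀ qY) (hf : ValPair f) :
    ∃ k : Over i₀, ValPair ((mapNat D i₀ g₀ (f₀ ≫ g₀) f₀ rfl).app k) := by
  obtain ⟨k, hk⟩ := exists_stage_points D hc f₀ g₀ (fun C V _ _ _ α => PairAt C.f V α)
    (descendsAt_pairAt f₀) hY hX fun C V _ _ _ α x hx => by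
      have sq := (IsPullback.of_hasPullback f x).paste_horiz hX
      rw [hx] at sq
      exact (C.pairAt_iff α sq).mpr (hf (CommRingCat.of V) x _ _ (IsPullback.of_hasPullback f x))
  refine ⟨k, fun V _ _ w P a b hP => ?_⟩
  obtain ⟨U, C, α, hw, hPα⟩ := hk V w
  have sq := hP.paste_horiz (isPullback_mapNat D i₀ g₀ (f₀ ≫ g₀) f₀ rfl k)
  rw [hw] at sq
  exact (C.pairAt_iff α sq).mp hPα

include hc in
theorem exists_valGen {X Y : Scheme.{u}} {f : X ⟶ Y} {g : Y ⟶ c.pt} {qY : Y ⟶ Y₀} {qX : X ⟶ X₀}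
    (hY : IsPullback qY g g₀ (c.π.app i₀)) (hX : IsPullback qX f f₀ qY) [UniversallyOpen f] :
    ∃ k : Over i₀, ValGen ((mapNat D i₀ g₀ (f₀ ≫ g₀) f₀ rfl).app k) := by
  obtain ⟨k, hk⟩ := exists_stage_points D hc f₀ g₀ (fun C V _ _ _ α => GenAt C.f V α)
    (descendsAt_genAt f₀) hY hX fun C V _ _ _ α x hx => by
      have sq := (IsPullback.of_hasPullback f x).paste_horiz hX
      rw [hx] at sq
      exact C.genAt_of_isOpenMap α sq (pullback.snd f x).isOpenMap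
  refine ⟨k, fun V _ _ w P a b hP => ?_⟩
  obtain ⟨U, C, α, hw, hPα⟩ := hk V w
  have sq := hP.paste_horiz (isPullback_mapNat D i₀ g₀ (f₀ ≫ g₀) f₀ rfl k)
  rw [hw] at sq
  exact C.forall_gen α sq hPα

end GrothLib.SubtrLim
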