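import Groth.Prelude.Def_HTop
import Groth.Agent.Lib.HTop.Cover
import Groth.Agent.Lib.Constr.Images
import Groth.Agent.Lib.SubtrLim.Submersive

/-!
# Finite families of quasi-compact morphisms: coverings and subtrusiveness
-/

set_option backward.isDefEq.respectTransparency false

universe u

open CategoryTheory CategoryTheory.Limits AlgebraicGeometry TopologicalSpace GrothLib.HTop

noncomputable section

namespace GrothLib.SubtrLim

variable {T : Scheme.{u}} (E : PreZeroHypercover.{u} T)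

theorem quasiCompact_sigmaDesc [Finite E.I₀] [∀ i, QuasiCompact (E.f i)] :
    QuasiCompact (Sigma.desc E.f) := by
  refine quasiCompact_iff_forall_isAffineOpen.mpr fun U hU => ?_
  have : ((Sigma.desc E.f ⁻¹ᵁ U : (∐ E.X : Scheme.{u}).Opens) : Set (∐ E.X : Scheme.{u})) =
      ⋃ i, Sigma.ι E.X i '' (E.f i ⁻¹ᵁ U : (E.X i).Opens) := by
    ext z
    obtain ⟨i, y, rfl⟩ := GrothLib.Constr.exists_sigma_eq E.X z
    refine ⟨fun hz => Set.mem_iUnion.mpr ⟨i, y, ?_, rfl⟩, fun hz => ?_⟩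
    · show E.f i y ∈ U
      rw [← Sigma.ι_desc E.f i, Scheme.Hom.comp_apply]
      exact hz
    · obtain ⟨j, y', hy', he⟩ := Set.mem_iUnion.mp hz
      show Sigma.desc E.f (Sigma.ι E.X i y) ∈ U
      rw [← he, ← Scheme.Hom.comp_apply, Sigma.ι_desc]
      exact hy'
  rw [this]
  exact isCompact_iUnion fun i => ((E.f i).isCompact_preimage hU.isCompact).image (Sigma.ι E.X i).continuous

/-- A subtrusive disjoint union has the lifting property for valuation rings. -/
theorem hasValLift_of_valPair (h : ValPair (Sigma.desc E.f)) : _root_.HTop.HasValLift E := by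
  intro V _ _ g
  obtain ⟨x, x', hx, hbx, hbx'⟩ := h V g _ _ (IsPullback.of_hasPullback (Sigma.desc E.f) g)
  obtain ⟨W, i1, i2, φ, hφ, l, hl⟩ := exists_extVal (pullback.snd (Sigma.desc E.f) g) hx hbx' hbx
  let m := l ≫ pullback.fst (Sigma.desc E.f) g
  obtain ⟨j, y, hy⟩ := GrothLib.Constr.exists_sigma_eq E.X (m (closed W))
  obtain ⟨m', hm'⟩ := exists_lift_of_closed_mem m (Sigma.ι E.X j) ⟨y, hy⟩
  refine ⟨W, i1, i2, φ, hφ, j, m', ?_⟩
  rw [← Sigma.ι_desc E.f j, ← Category.assoc, hm']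
  simp only [m, Category.assoc, pullback.condition]
  rw [reassoc_of% hl]

/-- For a finite family of quasi-compact morphisms, the lifting property gives a V covering. -/
theorem isVCover_of_hasValLift [Finite E.I₀] [∀ i, QuasiCompact (E.f i)] (h : _root_.HTop.HasValLift E) :
    _root_.HTop.IsVCover E := by
  intro U
  have : IsAffine _ := U.2
  choose Us hUs hUf hUc using fun i => (E.X i).isBasis_affineOpens.exists_finite_of_isCompact
    (U := E.f i ⁻¹ᵁ (U : T.Opens)) ((E.f i).isCompact_preimage U.2.isCompact)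
  have := fun i => (hUf i).to_subtype
  have hle : ∀ (W : Σ i, Us i), (W.2 : (E.X W.1).Opens) ≤ E.f W.1 ⁻¹ᵁ (U : T.Opens) :=
    fun W => hUc W.1 ▸ le_sSup W.2.2
  let F₀ : PreZeroHypercover.{u} ((U : T.Opens) : Scheme.{u}) :=
    ⟨Σ i, Us i, fun W => ((W.2 : (E.X W.1).Opens) : Scheme.{u}),
      fun W => (E.f W.1).resLE (U : T.Opens) W.2 (hle W)⟩
  have hF₀ : _root_.HTop.IsStandardV F₀ := by
    refine ⟨inferInstance, inferInstanceAs (Finite (Σ i, Us i)), fun W => hUs W.1 W.2.2, fun V _ _ a => ?_⟩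
    obtain ⟨W', i1, i2, φ, hφ, j, l, hl⟩ := h V (a ≫ (U : T.Opens).ι)
    have hmem : l (closed W') ∈ E.f j ⁻¹ᵁ (U : T.Opens) := by
      change (l ≫ E.f j) (closed W') ∈ (U : T.Opens)
      rw [hl, ← Category.assoc, Scheme.Hom.comp_apply]
      exact ((Spec.map φ ≫ a) (closed W')).2
    rw [hUc j] at hmem
    obtain ⟨W, hW, hlW⟩ := Opens.mem_sSup.1 hmem
    obtain ⟨l', hl'⟩ := exists_lift_of_closed_mem l (Scheme.Opens.ι W) (by rwa [Scheme.Opens.range_ι])
    refine ⟨W', i1, i2, φ, hφ, ⟨j, W, hW⟩, l', ?_⟩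
    refine (cancel_mono (U : T.Opens).ι).1 ?_
    change (l' ≫ (E.f j).resLE (U : T.Opens) W (hle ⟨j, W, hW⟩)) ≫ (U : T.Opens).ι = _
    rw [Category.assoc, Scheme.Hom.resLE_comp_ι, reassoc_of% hl', hl, Category.assoc]
  obtain ⟨F, hF, hr⟩ := exists_fin_reindex F₀ hF₀
  refine ⟨F, hF, fun k => ?_⟩
  obtain ⟨⟨j, W⟩, m, hm⟩ := hr k
  refine ⟨j, m ≫ Scheme.Opens.ι (W : (E.X j).Opens), ?_⟩
  rw [Category.comp_id] at hm
  rw [← hm, Category.assoc, Category.assoc]
  exact congrArg (m ≫ ·) (Scheme.Hom.resLE_comp_ι (E.f j) (hle ⟨j, W⟩)).symm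

end GrothLib.SubtrLim
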