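import Groth.Agent.Lib.SubtrLim.Ultra
import Mathlib.AlgebraicGeometry.AffineScheme
import Mathlib.CategoryTheory.Filtered.Basic
import Mathlib.Order.Filter.AtTopBot.Basic

/-!
# An ultraproduct of points at all stages gives a point of the limit
-/

set_option backward.isDefEq.respectTransparency false

universe u

open CategoryTheory CategoryTheory.Limits AlgebraicGeometry Filter

noncomputable section

namespace GrothLib.SubtrLim

variable {I : Type u} [SmallCategory I] [IsCofiltered I]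

/-- All the morphisms of `I`. -/
abbrev Arr (I : Type u) [SmallCategory I] : Type u := Σ (X : I) (Y : I), X ⟶ Y

open scoped Classical in
/-- The objects of a finite set of morphisms, together with `i₀`. -/
def objs (i₀ : I) (H : Finset (Arr I)) : Finset I :=
  insert i₀ (H.image (fun a => a.1) ∪ H.image (fun a => a.2.1))

lemma base_mem_objs (i₀ : I) (H : Finset (Arr I)) : i₀ ∈ objs i₀ H := by
  classical
  exact Finset.mem_insert_self _ _

lemma src_mem_objs (i₀ : I) {H : Finset (Arr I)} {X Y : I} {a : X ⟶ Y} (h : (⟨X, Y, a⟩ : Arr I) ∈ H) :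
    X ∈ objs i₀ H := by
  classical
  exact Finset.mem_insert_of_mem (Finset.mem_union_left _ (Finset.mem_image.mpr ⟨_, h, rfl⟩))

lemma tgt_mem_objs (i₀ : I) {H : Finset (Arr I)} {X Y : I} {a : X ⟶ Y} (h : (⟨X, Y, a⟩ : Arr I) ∈ H) :
    Y ∈ objs i₀ H := by
  classical
  exact Finset.mem_insert_of_mem (Finset.mem_union_right _ (Finset.mem_image.mpr ⟨_, h, rfl⟩))

/-- A stage below a finite diagram. -/
theorem exists_stage_below (i₀ : I) (H : Finset (Arr I)) :
    ∃ (S : I) (T : ∀ X ∈ objs i₀ H, S ⟶ X),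
      ∀ (X Y : I) (a : X ⟶ Y) (h : (⟨X, Y, a⟩ : Arr I) ∈ H),
        T X (src_mem_objs i₀ h) ≫ a = T Y (tgt_mem_objs i₀ h) := by
  classical
  let H' : Finset (Σ' (X Y : I) (_ : X ∈ objs i₀ H) (_ : Y ∈ objs i₀ H), X ⟶ Y) :=
    H.attach.image fun a => ⟨a.1.1, a.1.2.1, src_mem_objs i₀ a.2, tgt_mem_objs i₀ a.2, a.1.2.2⟩
  obtain ⟨S, T, hT⟩ := IsCofiltered.inf_exists (objs i₀ H) H'
  refine ⟨S, fun X hX => T hX, fun X Y a h => hT _ _ ?_⟩
  exact Finset.mem_image.mpr ⟨⟨⟨X, Y, a⟩, h⟩, Finset.mem_attach _ _, rfl⟩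

/-- The ring map of a point of an affine scheme. -/
def pointRing {R : CommRingCat.{u}} {T : Scheme.{u}} (m : Spec R ⟶ T) : Γ(T, ⊤) ⟶ R :=
  m.appTop ≫ (Scheme.ΓSpecIso R).hom

lemma pointRing_comp {R : CommRingCat.{u}} {T T' : Scheme.{u}} (m : Spec R ⟶ T) (g : T ⟶ T') :
    pointRing (m ≫ g) = g.appTop ≫ pointRing m := by
  simp [pointRing]

lemma specMap_pointRing {R : CommRingCat.{u}} {T : Scheme.{u}} [IsAffine T] (m : Spec R ⟶ T) :
    Spec.map (pointRing m) ≫ T.isoSpec.inv = m := by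
  rw [pointRing, Spec.map_comp, Category.assoc, Scheme.isoSpec_inv_naturality, SpecMap_ΓSpecIso_hom,
    ← Category.assoc, ← Scheme.isoSpec_hom]
  simp

variable (E : I ⥤ Scheme.{u}) [∀ j, IsAffine (E.obj j)] {c : Cone E} (hc : IsLimit c) (i₀ : I)
  {A : CommRingCat.{u}} (q₀ : E.obj i₀ ⟶ Spec A)

include hc in
/-- Points at all stages with property `Q` give an ultraproduct point of the limit. -/
theorem exists_ultra (Q : ∀ (V : Type u) [CommRing V] [IsDomain V] [ValuationRing V], (A →+* V) → Prop)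
    (H : ∀ (i : I) (φ : i ⟶ i₀), ∃ (V : Type u) (_ : CommRing V) (_ : IsDomain V) (_ : ValuationRing V)
      (α : A →+* V) (h : Spec (CommRingCat.of V) ⟶ E.obj i),
        h ≫ E.map φ ≫ q₀ = Spec.map (CommRingCat.ofHom α) ∧ Q V α) :
    ∃ (κ : Type u) (U : Ultrafilter κ) (V : κ → Type u) (_ : ∀ k, CommRing (V k))
      (_ : ∀ k, IsDomain (V k)) (_ : ∀ k, ValuationRing (V k)) (α : ∀ k, A →+* V k)
      (u : Spec (CommRingCat.of (UProd U V)) ⟶ c.pt),
      (∀ k, Q (V k) (α k)) ∧ u ≫ c.π.app i₀ ≫ q₀ =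
        Spec.map (CommRingCat.ofHom ((UProd.mk U V).comp (Pi.ringHom α))) := by
  classical
  choose S T hT using exists_stage_below i₀
  choose V hV1 hV2 hV3 α h hh hQ using
    fun H' : Finset (Arr I) => H (S H') (T H' i₀ (base_mem_objs i₀ H'))
  letI := hV1
  haveI := hV2
  haveI := hV3
  let U : Ultrafilter (Finset (Arr I)) := Ultrafilter.of atTop
  have hev : ∀ a : Arr I, ∀ᶠ H' in (U : Filter (Finset (Arr I))), a ∈ H' := fun a =>
    ((eventually_ge_atTop ({a} : Finset (Arr I))).filter_mono (Ultrafilter.of_le atTop)).mono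
      fun H' hH' => hH' (Finset.mem_singleton_self a)
  let pt : ∀ (H' : Finset (Arr I)) (j : I), j ∈ objs i₀ H' → (Γ(E.obj j, ⊤) ⟶ CommRingCat.of (V H')) :=
    fun H' j hj => pointRing (h H' ≫ E.map (T H' j hj))
  let τ : ∀ (j : I), Γ(E.obj j, ⊤) → ∀ H', V H' := fun j x H' =>
    if hj : j ∈ objs i₀ H' then (pt H' j hj).hom x else 0
  have hmem : ∀ j : I, ∀ᶠ H' in (U : Filter (Finset (Arr I))), j ∈ objs i₀ H' := fun j =>
    (hev ⟨j, j, 𝟙 j⟩).mono fun H' hH' => src_mem_objs i₀ hH'
  let Ψ : ∀ j : I, Γ(E.obj j, ⊤) →+* UProd U V := fun j =>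
    { toFun := fun x => UProd.mk U V (τ j x)
      map_one' := by
        rw [← map_one (UProd.mk U V), mk_eq_mk_iff]
        filter_upwards [hmem j] with H' hH'
        simp only [τ, dif_pos hH', map_one, Pi.one_apply]
      map_mul' := fun x y => by
        rw [← map_mul, mk_eq_mk_iff]
        filter_upwards [hmem j] with H' hH'
        simp only [τ, dif_pos hH', map_mul, Pi.mul_apply]
      map_zero' := by
        rw [mk_eq_zero_iff]
        filter_upwards [hmem j] with H' hH'
        simp only [τ, dif_pos hH', map_zero]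
      map_add' := fun x y => by
        rw [← map_add, mk_eq_mk_iff]
        filter_upwards [hmem j] with H' hH'
        simp only [τ, dif_pos hH', map_add, Pi.add_apply] }
  let R := CommRingCat.of (UProd U V)
  let s : Cone E :=
    { pt := Spec R
      π :=
        { app := fun j => Spec.map (CommRingCat.ofHom (Ψ j) : Γ(E.obj j, ⊤) ⟶ R) ≫ (E.obj j).isoSpec.inv
          naturality := fun j j' a => by
            have key : (E.map a).appTop ≫ (CommRingCat.ofHom (Ψ j) : Γ(E.obj j, ⊤) ⟶ R) =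
                CommRingCat.ofHom (Ψ j') := by
              ext x
              show UProd.mk U V (τ j ((E.map a).appTop.hom x)) = UProd.mk U V (τ j' x)
              rw [mk_eq_mk_iff]
              filter_upwards [hev ⟨j, j', a⟩] with H' hH'
              simp only [τ, dif_pos (src_mem_objs i₀ hH'), dif_pos (tgt_mem_objs i₀ hH')]
              show ((E.map a).appTop ≫ pt H' j (src_mem_objs i₀ hH')).hom x = _
              congr 2
              simp only [pt]
              rw [← pointRing_comp, Category.assoc, ← E.map_comp, hT H' j j' a hH']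
            dsimp only [Functor.const_obj_map, Functor.const_obj_obj]
            rw [Category.id_comp, Category.assoc, ← Scheme.isoSpec_inv_naturality, ← Spec.map_comp_assoc,
              key] } }
  refine ⟨Finset (Arr I), U, V, hV1, hV2, hV3, α, hc.lift s, hQ, ?_⟩
  let q₁ : A ⟶ Γ(E.obj i₀, ⊤) := Spec.preimage ((E.obj i₀).isoSpec.inv ≫ q₀)
  rw [hc.fac_assoc]
  show (Spec.map (CommRingCat.ofHom (Ψ i₀) : Γ(E.obj i₀, ⊤) ⟶ R) ≫ (E.obj i₀).isoSpec.inv) ≫ q₀ = _
  rw [Category.assoc, ← Spec.map_preimage ((E.obj i₀).isoSpec.inv ≫ q₀), ← Spec.map_comp]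
  congr 1
  ext x
  show UProd.mk U V (τ i₀ (q₁.hom x)) = UProd.mk U V (fun H' => α H' x)
  rw [mk_eq_mk_iff]
  refine Eventually.of_forall fun H' => ?_
  simp only [τ, dif_pos (base_mem_objs i₀ H')]
  show (q₁ ≫ pt H' i₀ (base_mem_objs i₀ H')).hom x = (CommRingCat.ofHom (α H')).hom x
  congr 2
  apply Spec.map_injective
  rw [Spec.map_comp, Spec.map_preimage, ← Category.assoc, specMap_pointRing, Category.assoc]
  exact hh H'

end GrothLib.SubtrLim
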