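import Groth.Agent.Lib.SubtrLim.Certificate
import Mathlib.RingTheory.Valuation.LocalSubring
import Mathlib.RingTheory.Localization.AtPrime.Basic

/-!
# Making special points rational after extending the valuation ring, and generalisations from openness
-/

universe u

open IsLocalRing MvPolynomial

noncomputable section

namespace GrothLib.SubtrLim

variable {n : ℕ} {σ : Type} {V : Type u} [CommRing V] [IsDomain V] [ValuationRing V]

/-- The linear equations of a rational point. -/
def coordEq (a : Fin n → V) : Fin n → MvPolynomial (Fin n) V := fun i => X i - C (a i)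

/-- Over an extension `W` of `V`, a point of the special fibre becomes rational; if it generalises
there, it generalises. -/
theorem exists_rational (f : σ → MvPolynomial (Fin n) V) (q : Ideal (MvPolynomial (Fin n) V))
    [hqp : q.IsPrime] (hf : ∀ l, f l ∈ q) (hq : q.comap C = maximalIdeal V) :
    ∃ (W : Type u) (_ : CommRing W) (_ : IsDomain W) (_ : ValuationRing W) (ι : V →+* W) (a : Fin n → W),
      (∀ l, eval a (MvPolynomial.map ι (f l)) ∈ maximalIdeal W) ∧
      (Lift W (fun l => MvPolynomial.map ι (f l)) (coordEq a) →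
        ∃ P : Ideal (MvPolynomial (Fin n) V), P.IsPrime ∧ P ≤ q ∧ (∀ l, f l ∈ P) ∧ P.comap C = ⊥) := by
  let R := MvPolynomial (Fin n) V
  let L := Localization.AtPrime q
  let K := FractionRing R
  let j : L →+* K := IsLocalization.map K (T := nonZeroDivisors R) (RingHom.id R)
    (show q.primeCompl ≤ (nonZeroDivisors R).comap (RingHom.id R) from fun x (hx : x ∉ q) =>
      mem_nonZeroDivisors_of_ne_zero fun h => hx (show x ∈ q by rw [show x = 0 from h]; exact zero_mem q))
  obtain ⟨W, hW, hloc⟩ := IsLocalRing.exists_factor_valuationRing j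
  let jW : L →+* W := j.codRestrict W.toSubring hW
  let θ : R →+* W := jW.comp (algebraMap R L)
  have hθq : (maximalIdeal W).comap θ = q := by
    rw [← Ideal.comap_comap]
    have hmax : (maximalIdeal W).comap jW = maximalIdeal L :=
      ((IsLocalRing.local_hom_TFAE jW).out 0 4).mp hloc
    rw [hmax]
    exact Localization.AtPrime.comap_maximalIdeal (I := q)
  have hθinj : Function.Injective θ := fun x y h => by
    have h' : j (algebraMap R L x) = j (algebraMap R L y) := congrArg Subtype.val h
    simp only [j, IsLocalization.map_eq, RingHom.id_apply] at h'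
    exact IsFractionRing.injective R K h'
  let ι : V →+* W := θ.comp C
  let a : Fin n → W := fun i => θ (X i)
  have hev : ∀ p : R, eval a (MvPolynomial.map ι p) = θ p := by
    intro p
    induction p using MvPolynomial.induction_on with
    | C r => simp [ι]
    | add p q hp hq => simp [hp, hq]
    | mul_X p i hp => simp [hp, a]
  refine ⟨W, inferInstance, inferInstance, inferInstance, ι, a, fun l => ?_, ?_⟩
  · rw [hev, ← Ideal.mem_comap, hθq]
    exact hf l
  rintro ⟨P', q', hP', hq', hle, hfP, haq, hP0, hqm⟩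
  refine ⟨P'.comap (MvPolynomial.map ι), Ideal.IsPrime.comap _, fun p hp => ?_, hfP, ?_⟩
  · rw [← hθq, Ideal.mem_comap, ← hev]
    have hsub : ∀ p : MvPolynomial (Fin n) W, p - C (eval a p) ∈ q' := by
      intro p
      induction p using MvPolynomial.induction_on with
      | C r => simp
      | add p q hp hq => simpa [add_sub_add_comm] using add_mem hp hq
      | mul_X p i hp =>
        have : p * X i - C (eval a (p * X i)) =
            (p - C (eval a p)) * X i + C (eval a p) * (X i - C (a i)) := by
          simp only [map_mul, eval_X]; ring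
        rw [this]
        exact add_mem (Ideal.mul_mem_right _ _ hp) (Ideal.mul_mem_left _ _ (haq i))
    have hp' : MvPolynomial.map ι p ∈ q' := hle hp
    rw [← hqm, Ideal.mem_comap]
    exact (Submodule.sub_mem_iff_right q' hp').mp (hsub _)
  · ext r
    rw [Ideal.mem_comap, Ideal.mem_comap, MvPolynomial.map_C, ← Ideal.mem_comap, hP0, Ideal.mem_bot, Ideal.mem_bot]
    exact ⟨fun h => by
      have := hθinj (show θ (C r) = θ 0 by rw [map_zero]; exact h)
      exact C_injective _ _ (this.trans C_0.symm), fun h => by rw [h, map_zero]⟩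

/-- A rational special point: its ideal. -/
theorem exists_prime_of_eval_mem (f : σ → MvPolynomial (Fin n) V) (a : Fin n → V)
    (hf : ∀ l, eval a (f l) ∈ maximalIdeal V) :
    ∃ q : Ideal (MvPolynomial (Fin n) V), q.IsPrime ∧ (∀ l, f l ∈ q) ∧ (∀ i, coordEq a i ∈ q) ∧
      q.comap C = maximalIdeal V := by
  refine ⟨(maximalIdeal V).comap (eval a), Ideal.IsPrime.comap _, hf, fun i => ?_, ?_⟩
  · simp [coordEq]
  · ext r; simp

/-- If `Spec V[X]/(f) → Spec V` sends basic opens to opens, special points generalise. -/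
theorem exists_le_of_image_generic (f : σ → MvPolynomial (Fin n) V) (q : Ideal (MvPolynomial (Fin n) V))
    [hqp : q.IsPrime]
    (h : ∀ t ∉ q, ∃ P : Ideal (MvPolynomial (Fin n) V), P.IsPrime ∧ (∀ l, f l ∈ P) ∧ P.comap C = ⊥ ∧ t ∉ P) :
    ∃ P : Ideal (MvPolynomial (Fin n) V), P.IsPrime ∧ P ≤ q ∧ (∀ l, f l ∈ P) ∧ P.comap C = ⊥ := by
  let M : Submonoid (MvPolynomial (Fin n) V) :=
    { carrier := {p | ∃ c : V, c ≠ 0 ∧ ∃ t ∉ q, p = C c * t}
      one_mem' := ⟨1, one_ne_zero, 1, fun h => hqp.ne_top ((Ideal.eq_top_iff_one _).mpr h), by simp⟩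
      mul_mem' := by
        rintro - - ⟨c, hc, t, ht, rfl⟩ ⟨c', hc', t', ht', rfl⟩
        exact ⟨c * c', mul_ne_zero hc hc', t * t', fun h => (hqp.mem_or_mem h).elim ht ht',
          by rw [map_mul]; ring⟩ }
  have hdisj : Disjoint ((Ideal.span (Set.range f) : Ideal _) : Set (MvPolynomial (Fin n) V)) (M : Set _) := by
    rw [Set.disjoint_right]
    rintro - ⟨c, hc, t, ht, rfl⟩ hI
    obtain ⟨P, hP, hfP, hP0, htP⟩ := h t ht
    rcases hP.mem_or_mem (Ideal.span_le.mpr (Set.range_subset_iff.mpr hfP) hI) with h' | h'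
    · exact hc (by rw [← Ideal.mem_bot, ← hP0]; exact h')
    · exact htP h'
  obtain ⟨P, hP, hIP, hPM⟩ := Ideal.exists_le_prime_disjoint _ M hdisj
  refine ⟨P, hP, fun p hp => ?_, fun l => hIP (Ideal.subset_span ⟨l, rfl⟩), eq_bot_iff.mpr fun c hc => ?_⟩
  · by_contra hpq
    exact Set.disjoint_right.mp hPM ⟨1, one_ne_zero, p, hpq, by simp⟩ hp
  · by_contra hc0
    exact Set.disjoint_right.mp hPM ⟨c, hc0, 1, fun h => hqp.ne_top ((Ideal.eq_top_iff_one _).mpr h),
      by simp⟩ hc

end GrothLib.SubtrLim
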