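import Groth.Agent.Lib.SubtrLim.Certificate
import Groth.Agent.Lib.SubtrLim.Coord
import Groth.Agent.Lib.SubtrLim.ConeUltra

/-!
# The affine form of the limit theorems for universally subtrusive and universally open morphisms
-/

set_option backward.isDefEq.respectTransparency false

universe u

open CategoryTheory CategoryTheory.Limits AlgebraicGeometry Filter IsLocalRing Matrix

noncomputable section

namespace GrothLib.SubtrLim

variable {n : ℕ} {σ τ : Type}

theorem homEval_ringMap {V W A B : Type*} [CommRing V] [CommRing W] [Ring A] [Algebra V A] [Ring B]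
    [Algebra W B] (ρ : A →+* B) (φ : V →+* W) (hρ : ∀ r : V, ρ (algebraMap V A r) = algebraMap W B (φ r))
    (E : Finset (Fin n →₀ ℕ)) (D : ℕ) (c : (Fin n →₀ ℕ) → V) (Y : Fin n → A) (T : A) :
    ρ (homEval E D c Y T) = homEval E D (fun e => φ (c e)) (fun i => ρ (Y i)) (ρ T) := by
  simp [homEval, Algebra.smul_def, hρ, map_list_prod, List.map_map, Function.comp_def]

variable {κ : Type u} (U : Ultrafilter κ) (V : κ → Type u) [∀ k, CommRing (V k)] [∀ k, IsDomain (V k)]
  [∀ k, ValuationRing (V k)]

/-- A lift over the ultraproduct gives lifts at almost every index. -/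
theorem eventually_lift [Fintype σ] [Fintype τ] (f : σ → MvPolynomial (Fin n) (∀ k, V k))
    (J : τ → MvPolynomial (Fin n) (∀ k, V k))
    (h : Lift (UProd U V) (fun l => MvPolynomial.map (UProd.mk U V) (f l))
      (fun l => MvPolynomial.map (UProd.mk U V) (J l))) :
    ∀ᶠ k in U, Lift (V k) (fun l => MvPolynomial.map (Pi.evalRingHom V k) (f l))
      (fun l => MvPolynomial.map (Pi.evalRingHom V k) (J l)) := by
  classical
  let E : Finset (Fin n →₀ ℕ) :=
    (Finset.univ.biUnion fun l => (f l).support) ∪ Finset.univ.biUnion fun l => (J l).support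
  let D : ℕ := E.sup fun e => e.degree
  have hD : ∀ e ∈ E, e.degree ≤ D := fun e he => Finset.le_sup (f := fun e => e.degree) he
  have hfE : ∀ l, (f l).support ⊆ E := fun l =>
    (Finset.subset_biUnion_of_mem (fun l => (f l).support) (Finset.mem_univ l)).trans Finset.subset_union_left
  have hJE : ∀ l, (J l).support ⊆ E := fun l =>
    (Finset.subset_biUnion_of_mem (fun l => (J l).support) (Finset.mem_univ l)).trans Finset.subset_union_right
  obtain ⟨d, Y, S, W, v, i₀, hcomm, hf, hJ, hSW, hv⟩ := cert_of_lift E D hD _ _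
    (fun l => Finset.Subset.trans (MvPolynomial.support_map_subset _ _) (hfE l))
    (fun l => Finset.Subset.trans (MvPolynomial.support_map_subset _ _) (hJE l)) h
  have hsurj : ∀ M : Matrix (Fin d) (Fin d) (UProd U V),
      ∃ M' : Matrix (Fin d) (Fin d) (∀ k, V k), (UProd.mk U V).mapMatrix M' = M := fun M => by
    choose M' hM' using fun i j => Ideal.Quotient.mk_surjective (I := evZero U V) (M i j)
    exact ⟨Matrix.of M', Matrix.ext fun i j => hM' i j⟩
  choose Y' hY' using fun i => hsurj (Y i)
  obtain ⟨S', hS'⟩ := hsurj S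
  obtain ⟨W', hW'⟩ := hsurj W
  choose v' hv' using fun i => Ideal.Quotient.mk_surjective (I := evZero U V) (v i)
  let m := UProd.mk U V
  have hev : ∀ (M N : Matrix (Fin d) (Fin d) (∀ k, V k)), m.mapMatrix M = m.mapMatrix N →
      ∀ᶠ k in U, (Pi.evalRingHom V k).mapMatrix M = (Pi.evalRingHom V k).mapMatrix N := by
    intro M N hMN
    have : ∀ i j, ∀ᶠ k in U, M i j k = N i j k := fun i j =>
      (mk_eq_mk_iff U V).mp (congrFun (congrFun hMN i) j)
    filter_upwards [eventually_all.mpr fun i => eventually_all.mpr (this i)] with k hk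
    exact Matrix.ext fun i j => hk i j
  have halg : ∀ {R R' : Type u} [CommRing R] [CommRing R'] (φ : R →+* R') (r : R),
      φ.mapMatrix (algebraMap R (Matrix (Fin d) (Fin d) R) r) =
        algebraMap R' (Matrix (Fin d) (Fin d) R') (φ r) := fun φ r => by
    simp [Matrix.algebraMap_eq_diagonal, Matrix.diagonal_map, Function.comp_def]
  -- commutation
  let T := Set.range Y' ∪ {S', W'}
  haveI : Finite T := ((Set.finite_range Y').union (Set.toFinite _)).to_subtype
  have h1 : ∀ᶠ k in U, ∀ a b : T, (Pi.evalRingHom V k).mapMatrix (a.1 * b.1) =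
      (Pi.evalRingHom V k).mapMatrix (b.1 * a.1) := by
    refine eventually_all.mpr fun a => eventually_all.mpr fun b => hev _ _ ?_
    have hT : ∀ a : T, m.mapMatrix a.1 ∈ Set.range Y ∪ {S, W} := by
      rintro ⟨a, ⟨i, rfl⟩ | rfl | rfl⟩
      · exact Or.inl ⟨i, (hY' i).symm⟩
      · exact Or.inr (Or.inl hS')
      · exact Or.inr (Or.inr hW')
    rw [map_mul, map_mul]
    exact hcomm _ (hT a) _ (hT b)
  have h2 : ∀ᶠ k in U, ∀ l, (Pi.evalRingHom V k).mapMatrix (homEval E D (fun e => (f l).coeff e) Y' S') =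
      (Pi.evalRingHom V k).mapMatrix 0 := by
    refine eventually_all.mpr fun l => hev _ _ ?_
    rw [homEval_ringMap (m.mapMatrix (m := Fin d)) m (halg m), map_zero, hS']
    rw [show (fun i => (m.mapMatrix (m := Fin d)) (Y' i)) = Y from funext hY']
    simpa [m, MvPolynomial.coeff_map] using hf l
  have hmv : ∀ (M : Matrix (Fin d) (Fin d) (∀ k, V k)) (i : Fin d),
      m ((M *ᵥ v') i) = ((m.mapMatrix M) *ᵥ v) i := fun M i => by
    rw [RingHom.map_mulVec m M v' i, RingHom.mapMatrix_apply,
      show (m ∘ v' : Fin d → UProd U V) = v from funext hv']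
  have h3 : ∀ᶠ k in U, ∀ l i, (homEval E D (fun e => (J l).coeff e) Y' S' *ᵥ v') i k ∈ maximalIdeal (V k) := by
    refine eventually_all.mpr fun l => eventually_all.mpr fun i => (mk_mem_maximalIdeal_iff U V).mp ?_
    rw [hmv, homEval_ringMap (m.mapMatrix (m := Fin d)) m (halg m), hS']
    rw [show (fun i => (m.mapMatrix (m := Fin d)) (Y' i)) = Y from funext hY']
    simpa [m, MvPolynomial.coeff_map] using hJ l i
  have h4 : ∀ᶠ k in U, ∀ i, (((S' * W') *ᵥ v') i - v' i) k ∈ maximalIdeal (V k) := by
    refine eventually_all.mpr fun i => (mk_mem_maximalIdeal_iff U V).mp ?_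
    rw [map_sub, hmv, map_mul, hS', hW', hv']
    exact hSW i
  have h5 : ∀ᶠ k in U, v' i₀ k ∉ maximalIdeal (V k) := by
    rw [Ultrafilter.eventually_not, ← mk_mem_maximalIdeal_iff, hv']
    exact hv
  filter_upwards [h1, h2, h3, h4, h5] with k k1 k2 k3 k4 k5
  let p := Pi.evalRingHom V k
  refine lift_of_cert E D hD _ _
    (fun l => Finset.Subset.trans (MvPolynomial.support_map_subset _ _) (hfE l))
    (fun l => Finset.Subset.trans (MvPolynomial.support_map_subset _ _) (hJE l))
    ⟨d, fun i => p.mapMatrix (Y' i), p.mapMatrix S', p.mapMatrix W', fun i => v' i k, i₀, ?_, fun l => ?_,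
      fun l i => ?_, fun i => ?_, k5⟩
  · have hT : ∀ z ∈ Set.range (fun i => p.mapMatrix (Y' i)) ∪ {p.mapMatrix S', p.mapMatrix W'},
        ∃ a : T, p.mapMatrix a.1 = z := by
      rintro z (⟨i, rfl⟩ | rfl | rfl)
      · exact ⟨⟨_, Or.inl ⟨i, rfl⟩⟩, rfl⟩
      · exact ⟨⟨_, Or.inr (Or.inl rfl)⟩, rfl⟩
      · exact ⟨⟨_, Or.inr (Or.inr rfl)⟩, rfl⟩
    intro a ha b hb
    obtain ⟨a, rfl⟩ := hT a ha
    obtain ⟨b, rfl⟩ := hT b hb
    rw [← map_mul, ← map_mul]
    exact k1 a b
  · have := k2 l
    rw [homEval_ringMap (p.mapMatrix (m := Fin d)) p (halg p), map_zero] at this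
    simpa [p, MvPolynomial.coeff_map] using this
  · have := k3 l i
    rw [show (homEval E D (fun e => (J l).coeff e) Y' S' *ᵥ v') i k =
      p ((homEval E D (fun e => (J l).coeff e) Y' S' *ᵥ v') i) from rfl, RingHom.map_mulVec,
      ← RingHom.mapMatrix_apply, homEval_ringMap (p.mapMatrix (m := Fin d)) p (halg p)] at this
    simp only [MvPolynomial.coeff_map]
    exact this
  · have := k4 i
    rw [show (((S' * W') *ᵥ v') i - v' i) k = p (((S' * W') *ᵥ v') i) - v' i k from rfl,
      RingHom.map_mulVec, ← RingHom.mapMatrix_apply, map_mul] at this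
    exact this

theorem map_eval_eq {R S : Type*} [CommRing R] [CommRing S] (φ : R →+* S) (a : Fin n → R)
    (p : MvPolynomial (Fin n) R) :
    φ (MvPolynomial.eval a p) = MvPolynomial.eval (fun i => φ (a i)) (MvPolynomial.map φ p) := by
  induction p using MvPolynomial.induction_on with
  | C r => simp
  | add p q hp hq => simp [hp, hq]
  | mul_X p i hp => simp [hp]

/-- Some point of the fibre over the closed point has a generalisation over the generic point. -/
def PairAt {A : Type u} [CommRing A] (f : σ → MvPolynomial (Fin n) A) (V : Type u) [CommRing V]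
    [IsDomain V] [ValuationRing V] (α : A →+* V) : Prop :=
  Lift V (fun l => MvPolynomial.map α (f l)) (fun e : Empty => e.elim)

/-- Every point of the fibre over the closed point has a generalisation over the generic point. -/
def GenAt {A : Type u} [CommRing A] (f : σ → MvPolynomial (Fin n) A) (V : Type u) [CommRing V]
    [IsDomain V] [ValuationRing V] (α : A →+* V) : Prop :=
  ∀ q : Ideal (MvPolynomial (Fin n) V), q.IsPrime → (∀ l, MvPolynomial.map α (f l) ∈ q) →
    q.comap MvPolynomial.C = maximalIdeal V →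
      ∃ P : Ideal (MvPolynomial (Fin n) V), P.IsPrime ∧ P ≤ q ∧ (∀ l, MvPolynomial.map α (f l) ∈ P) ∧
        P.comap MvPolynomial.C = ⊥

variable {I : Type u} [SmallCategory I] [IsCofiltered I] (E : I ⥤ Scheme.{u}) [∀ j, IsAffine (E.obj j)]
  {c : Cone E} (hc : IsLimit c) (i₀ : I) {A : CommRingCat.{u}} (q₀ : E.obj i₀ ⟶ Spec A) [Fintype σ]
  (f : σ → MvPolynomial (Fin n) A)

omit U V in
include hc in
theorem exists_stage_pairAt
    (h : ∀ (V : Type u) [CommRing V] [IsDomain V] [ValuationRing V] (α : A →+* V)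
      (x : Spec (CommRingCat.of V) ⟶ c.pt),
      x ≫ c.π.app i₀ ≫ q₀ = Spec.map (CommRingCat.ofHom α) → PairAt f V α) :
    ∃ (i : I) (φ : i ⟶ i₀), ∀ (V : Type u) [CommRing V] [IsDomain V] [ValuationRing V] (α : A →+* V)
      (x : Spec (CommRingCat.of V) ⟶ E.obj i),
      x ≫ E.map φ ≫ q₀ = Spec.map (CommRingCat.ofHom α) → PairAt f V α := by
  by_contra hcon
  push Not at hcon
  obtain ⟨κ, U, V, _, _, _, α, u, hQ, hu⟩ :=
    exists_ultra E hc i₀ q₀ (fun V _ _ _ α => ¬ PairAt f V α) hcon
  let β : A →+* ∀ k, V k := Pi.ringHom α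
  have hf : ∀ k, (fun l => MvPolynomial.map (Pi.evalRingHom V k) (MvPolynomial.map β (f l))) =
      fun l => MvPolynomial.map (α k) (f l) := fun k => funext fun l => by
    rw [MvPolynomial.map_map]; rfl
  have hlim := h (UProd U V) ((UProd.mk U V).comp β) u hu
  have hE : ∀ {R : Type u} [CommRing R] (g g' : Empty → MvPolynomial (Fin n) R), g = g' :=
    fun g g' => funext fun e => e.elim
  have key := eventually_lift U V (fun l => MvPolynomial.map β (f l)) (fun e : Empty => e.elim) (by
    simp only [MvPolynomial.map_map]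
    rw [hE (R := UProd U V) (fun l => MvPolynomial.map (UProd.mk U V) _) (fun e => e.elim)]
    exact hlim)
  obtain ⟨k, hk⟩ := key.exists
  refine hQ k ?_
  rw [hf, hE (R := V k) (fun l => MvPolynomial.map (Pi.evalRingHom V k) _) (fun e => e.elim)] at hk
  exact hk

omit U V in
include hc in
theorem exists_stage_genAt
    (h : ∀ (V : Type u) [CommRing V] [IsDomain V] [ValuationRing V] (α : A →+* V)
      (x : Spec (CommRingCat.of V) ⟶ c.pt),
      x ≫ c.π.app i₀ ≫ q₀ = Spec.map (CommRingCat.ofHom α) → GenAt f V α) :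
    ∃ (i : I) (φ : i ⟶ i₀), ∀ (V : Type u) [CommRing V] [IsDomain V] [ValuationRing V] (α : A →+* V)
      (x : Spec (CommRingCat.of V) ⟶ E.obj i),
      x ≫ E.map φ ≫ q₀ = Spec.map (CommRingCat.ofHom α) → GenAt f V α := by
  let Q : ∀ (V : Type u) [CommRing V] [IsDomain V] [ValuationRing V], (A →+* V) → Prop :=
    fun V _ _ _ α => ∃ a : Fin n → V, (∀ l, MvPolynomial.eval a (MvPolynomial.map α (f l)) ∈ maximalIdeal V) ∧
      ¬ Lift V (fun l => MvPolynomial.map α (f l)) (coordEq a)
  by_contra hcon
  push Not at hcon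
  obtain ⟨κ, U, V, _, _, _, α, u, hQ, hu⟩ := exists_ultra E hc i₀ q₀ Q fun i φ => by
    obtain ⟨V, _, _, _, α, x, hx, hbad⟩ := hcon i φ
    simp only [GenAt, not_forall] at hbad
    obtain ⟨q, hq, hfq, hqm, hno⟩ := hbad
    obtain ⟨W, _, _, _, ι, a, ha, hW⟩ := exists_rational (fun l => MvPolynomial.map α (f l)) q hfq hqm
    simp only [MvPolynomial.map_map] at ha hW
    refine ⟨W, inferInstance, inferInstance, inferInstance, ι.comp α,
      Spec.map (CommRingCat.ofHom ι) ≫ x, ?_, a, ha, fun hl => hno (hW hl)⟩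
    rw [Category.assoc, hx, ← Spec.map_comp]
    rfl
  choose a ha hno using hQ
  let β : A →+* ∀ k, V k := Pi.ringHom α
  let av : Fin n → ∀ k, V k := fun i k => a k i
  let m := UProd.mk U V
  obtain ⟨q, hq, hfq, haq, hqm⟩ := exists_prime_of_eval_mem
    (fun l => MvPolynomial.map (m.comp β) (f l)) (fun i => m (av i)) (fun l => by
      rw [← MvPolynomial.map_map, ← map_eval_eq, mk_mem_maximalIdeal_iff]
      refine Eventually.of_forall fun k => ?_
      show Pi.evalRingHom V k (MvPolynomial.eval av (MvPolynomial.map β (f l))) ∈ _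
      rw [map_eval_eq, MvPolynomial.map_map]
      exact ha k l)
  obtain ⟨P, hP, hPq, hfP, hP0⟩ := h (UProd U V) (m.comp β) u hu q hq hfq hqm
  have key := eventually_lift U V (fun l => MvPolynomial.map β (f l)) (coordEq av)
    ⟨P, q, hP, hq, hPq, fun l => by beta_reduce; rw [MvPolynomial.map_map]; exact hfP l,
      fun i => by
        beta_reduce
        rw [show MvPolynomial.map m (coordEq av i) = coordEq (fun i => m (av i)) i by simp [coordEq]]
        exact haq i,
      hP0, hqm⟩
  obtain ⟨k, hk⟩ := key.exists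
  refine hno k ?_
  simp only [MvPolynomial.map_map] at hk
  convert hk using 1 <;> funext i <;> first
    | rfl
    | simp [coordEq, av]

end GrothLib.SubtrLim
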