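import Groth.Agent.Lib.SubtrLim.Multisection
import Mathlib.RingTheory.Ideal.AssociatedPrime.Localization
import Mathlib.RingTheory.Ideal.GoingDown
import Mathlib.RingTheory.Artinian.Module
import Mathlib.LinearAlgebra.Matrix.ToLin
import Mathlib.RingTheory.LocalRing.Module
import Mathlib.RingTheory.IntegralClosure.IntegrallyClosed

/-!
# Lifting a pair of points over a valuation ring is certified by finitely many matrix equations
-/

universe u

open Matrix IsLocalRing

noncomputable section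

namespace GrothLib.SubtrLim

variable {n : ℕ}

/-- The homogenisation of degree `D` of the polynomial with coefficients `c` on `E`, evaluated at
`Y`, `T`. -/
def homEval {V A : Type*} [CommRing V] [Ring A] [Algebra V A] (E : Finset (Fin n →₀ ℕ)) (D : ℕ)
    (c : (Fin n →₀ ℕ) → V) (Y : Fin n → A) (T : A) : A :=
  ∑ e ∈ E, c e • (((List.finRange n).map fun i => Y i ^ e i).prod * T ^ (D - e.degree))

set_option linter.style.haveILetI false

theorem homEval_map {V A B : Type*} [CommRing V] [Ring A] [Algebra V A] [Ring B] [Algebra V B]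
    (h : A →ₐ[V] B) (E : Finset (Fin n →₀ ℕ)) (D : ℕ) (c : (Fin n →₀ ℕ) → V) (Y : Fin n → A) (T : A) :
    h (homEval E D c Y T) = homEval E D c (fun i => h (Y i)) (h T) := by
  simp [homEval, map_list_prod, List.map_map, Function.comp_def]

/-- The polynomial with coefficients `c` on `E`. -/
def polyOf {V : Type*} [CommRing V] (E : Finset (Fin n →₀ ℕ)) (c : (Fin n →₀ ℕ) → V) :
    MvPolynomial (Fin n) V :=
  ∑ e ∈ E, MvPolynomial.monomial e (c e)

theorem polyOf_coeff {V : Type*} [CommRing V] {E : Finset (Fin n →₀ ℕ)} (p : MvPolynomial (Fin n) V)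
    (h : p.support ⊆ E) : polyOf E (fun e => p.coeff e) = p := by
  refine Eq.trans ?_ p.as_sum.symm
  refine (Finset.sum_subset h fun e _ he => ?_).symm
  simp only [MvPolynomial.notMem_support_iff.mp he, map_zero]

theorem homEval_eq {V A : Type*} [CommRing V] [CommRing A] [Algebra V A] (E : Finset (Fin n →₀ ℕ))
    (D : ℕ) (hD : ∀ e ∈ E, e.degree ≤ D) (c : (Fin n →₀ ℕ) → V) (Y : Fin n → A) (T : A) (x : Fin n → A)
    (h : ∀ i, T * x i = Y i) :
    homEval E D c Y T = T ^ D * MvPolynomial.aeval x (polyOf E c) := by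
  simp only [homEval, polyOf, map_sum, Finset.mul_sum]
  refine Finset.sum_congr rfl fun e he => ?_
  rw [MvPolynomial.aeval_monomial, Algebra.smul_def, ← Fin.prod_univ_def, Finsupp.prod_fintype _ _ (fun i => pow_zero _)]
  simp only [← h, mul_pow, Finset.prod_mul_distrib, Finset.prod_pow_eq_pow_sum]
  have hs : ∑ i, e i = e.degree := by
    rw [Finsupp.degree_eq_sum]
  rw [hs, mul_assoc, mul_comm (∏ i, x i ^ e i), ← mul_assoc (T ^ e.degree), ← pow_add,
    Nat.add_sub_cancel' (hD e he)]
  ring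

variable {σ τ : Type}

/-- A pair of primes over the generic and the closed point containing `f`, resp. `J`. -/
def Lift (V : Type u) [CommRing V] [IsDomain V] [ValuationRing V]
    (f : σ → MvPolynomial (Fin n) V) (J : τ → MvPolynomial (Fin n) V) : Prop :=
  ∃ P q : Ideal (MvPolynomial (Fin n) V), P.IsPrime ∧ q.IsPrime ∧ P ≤ q ∧ (∀ l, f l ∈ P) ∧
    (∀ l, J l ∈ q) ∧ P.comap MvPolynomial.C = ⊥ ∧ q.comap MvPolynomial.C = maximalIdeal V

/-- The finite certificate. -/
def Cert (V : Type u) [CommRing V] [IsDomain V] [ValuationRing V] (E : Finset (Fin n →₀ ℕ)) (D : ℕ)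
    (cf : σ → (Fin n →₀ ℕ) → V) (cJ : τ → (Fin n →₀ ℕ) → V) : Prop :=
  ∃ (d : ℕ) (Y : Fin n → Matrix (Fin d) (Fin d) V) (S U : Matrix (Fin d) (Fin d) V) (v : Fin d → V)
    (i₀ : Fin d),
    (∀ a ∈ Set.range Y ∪ {S, U}, ∀ b ∈ Set.range Y ∪ {S, U}, a * b = b * a) ∧
    (∀ l, homEval E D (cf l) Y S = 0) ∧
    (∀ l i, (homEval E D (cJ l) Y S *ᵥ v) i ∈ maximalIdeal V) ∧
    (∀ i, ((S * U) *ᵥ v) i - v i ∈ maximalIdeal V) ∧ v i₀ ∉ maximalIdeal V

variable {V : Type u} [CommRing V] [IsDomain V] [ValuationRing V]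

theorem lift_of_cert (E : Finset (Fin n →₀ ℕ)) (D : ℕ) (hD : ∀ e ∈ E, e.degree ≤ D)
    (f : σ → MvPolynomial (Fin n) V) (J : τ → MvPolynomial (Fin n) V)
    (hf : ∀ l, (f l).support ⊆ E) (hJ : ∀ l, (J l).support ⊆ E)
    (h : Cert V E D (fun l e => (f l).coeff e) (fun l e => (J l).coeff e)) : Lift V f J := by
  classical
  obtain ⟨d, Y, S, U, v, i₀, hcomm, hfY, hJY, hSU, hv⟩ := h
  let gens : Set (Matrix (Fin d) (Fin d) V) := Set.range Y ∪ {S, U}
  let A := Algebra.adjoin V gens
  haveI : IsMulCommutative A := Algebra.isMulCommutative_adjoin V hcomm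
  open scoped IsMulCommutative in
  let Y' : Fin n → A := fun i => ⟨Y i, Algebra.subset_adjoin (Or.inl ⟨i, rfl⟩)⟩
  let S' : A := ⟨S, Algebra.subset_adjoin (Or.inr (Or.inl rfl))⟩
  let U' : A := ⟨U, Algebra.subset_adjoin (Or.inr (Or.inr rfl))⟩
  haveI : Algebra.IsIntegral V A := ⟨fun a =>
    (isIntegral_algHom_iff A.val Subtype.val_injective).mp
      (Algebra.IsIntegral.isIntegral (a : Matrix (Fin d) (Fin d) V))⟩
  haveI : Algebra.FiniteType V A := (Subalgebra.fg_iff_finiteType A).mp
    (Subalgebra.fg_def.mpr ⟨gens, (Set.finite_range Y).union (Set.toFinite _), rfl⟩)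
  haveI : Module.Finite V A := Algebra.IsIntegral.finite
  haveI : Module.Flat V A := by
    refine Module.Flat.flat_iff_torsion_eq_bot_of_isBezout.mpr ?_
    refine (Submodule.eq_bot_iff _).mpr fun x hx => ?_
    obtain ⟨a, ha⟩ := (Submodule.mem_torsion_iff _).mp hx
    have ha' : (a : V) • (x : Matrix (Fin d) (Fin d) V) = 0 := congrArg Subtype.val ha
    refine Subtype.ext (Matrix.ext fun i j => ?_)
    have := congrFun (congrFun ha' i) j
    exact (mul_eq_zero.mp (this : (a : V) * _ = 0)).resolve_left (nonZeroDivisors.coe_ne_zero a)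
  have hcombo : ∀ (M : Matrix (Fin d) (Fin d) V) (w : Fin d → V), (∀ i, w i ∈ maximalIdeal V) →
      ∀ i, (M *ᵥ w) i ∈ maximalIdeal V := fun M w hw i => by
    show ∑ j, M i j * w j ∈ maximalIdeal V
    exact Ideal.sum_mem _ fun j _ => Ideal.mul_mem_left _ _ (hw j)
  let I : Ideal A :=
    { carrier := {a | ∀ i, ((a : Matrix (Fin d) (Fin d) V) *ᵥ v) i ∈ maximalIdeal V}
      add_mem' := fun {a b} ha hb i => by
        simp only [Subalgebra.coe_add, Matrix.add_mulVec, Pi.add_apply]
        exact add_mem (ha i) (hb i)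
      zero_mem' := fun i => by simp
      smul_mem' := fun b a ha i => by
        simp only [smul_eq_mul, Subalgebra.coe_mul, ← Matrix.mulVec_mulVec]
        exact hcombo _ _ ha i }
  have hpow : ∀ N : ℕ, ∀ i, (((S * U) ^ N) *ᵥ v) i - v i ∈ maximalIdeal V := by
    intro N
    induction N with
    | zero => simp
    | succ N ih =>
      intro i
      rw [pow_succ', ← Matrix.mulVec_mulVec,
        show ((S * U) *ᵥ ((S * U) ^ N *ᵥ v)) i - v i =
          ((S * U) *ᵥ ((S * U) ^ N *ᵥ v - v)) i + (((S * U) *ᵥ v) i - v i) by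
            rw [Matrix.mulVec_sub, Pi.sub_apply]; ring]
      exact add_mem (hcombo _ _ (fun j => by simpa using ih j) i) (hSU i)
  have hdisj : Disjoint (I : Set A) (Submonoid.powers S' : Set A) := by
    rw [Set.disjoint_right]
    rintro - ⟨N, rfl⟩ hN
    refine hv ?_
    have h1 := (I.mul_mem_left (U' ^ N) hN) i₀
    rw [← mul_pow, mul_comm U' S', SubmonoidClass.coe_pow, Subalgebra.coe_mul] at h1
    have h2 := Ideal.sub_mem _ h1 (hpow N i₀)
    simpa [S', U'] using h2
  obtain ⟨n₀, hn₀, hIn, hSn⟩ := Ideal.exists_le_prime_disjoint _ _ hdisj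
  haveI := hn₀
  have hn0V : n₀.comap (algebraMap V A) = maximalIdeal V := by
    refine ((IsLocalRing.maximalIdeal.isMaximal V).eq_of_le
      (Ideal.IsPrime.ne_top (Ideal.IsPrime.comap _)) fun a ha => hIn fun i => ?_).symm
    rw [Subalgebra.coe_algebraMap, Algebra.algebraMap_eq_smul_one, Matrix.smul_mulVec, Matrix.one_mulVec]
    exact Ideal.mul_mem_right _ _ ha
  haveI : Algebra.HasGoingDown V A := Algebra.HasGoingDown.of_flat
  haveI : n₀.LiesOver (maximalIdeal V) := ⟨hn0V.symm⟩
  obtain ⟨Q, hQn, hQ, hQ0⟩ := Ideal.exists_ideal_le_liesOver_of_le (p := (⊥ : Ideal V))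
    (q := maximalIdeal V) n₀ bot_le
  haveI := hQ
  let L := Localization.Away S'
  have hSn' : ∀ (p : Ideal A), p ≤ n₀ → Disjoint (Submonoid.powers S' : Set A) (p : Set A) := fun p hp =>
    (Disjoint.mono_left (SetLike.coe_subset_coe.mpr hp) hSn).symm
  have hmax := IsLocalization.isPrime_of_isPrime_disjoint (Submonoid.powers S') L n₀ hn₀ (hSn' n₀ le_rfl)
  have hmin := IsLocalization.isPrime_of_isPrime_disjoint (Submonoid.powers S') L Q hQ (hSn' Q hQn)
  have hSu : IsUnit (algebraMap A L S') := IsLocalization.Away.algebraMap_isUnit S'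
  let x : Fin n → L := fun i => algebraMap A L (Y' i) * ↑hSu.unit⁻¹
  have hx : ∀ i, algebraMap A L S' * x i = algebraMap A L (Y' i) := fun i => by
    simp only [x]
    rw [mul_left_comm, IsUnit.mul_val_inv, mul_one]
  have key : ∀ (p : MvPolynomial (Fin n) V), p.support ⊆ E →
      ∃ a : A, algebraMap A L a = algebraMap A L S' ^ D * MvPolynomial.aeval x p ∧
        (a : Matrix (Fin d) (Fin d) V) = homEval E D (fun e => p.coeff e) Y S := by
    intro p hp
    refine ⟨homEval E D (fun e => p.coeff e) Y' S', ?_, homEval_map A.val E D _ Y' S'⟩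
    rw [show algebraMap A L (homEval E D (fun e => p.coeff e) Y' S') =
      homEval E D (fun e => p.coeff e) (fun i => algebraMap A L (Y' i)) (algebraMap A L S') from
        homEval_map (IsScalarTower.toAlgHom V A L) E D _ Y' S', homEval_eq E D hD _ _ _ x hx,
      polyOf_coeff p hp]
  refine ⟨(Q.map (algebraMap A L)).comap (MvPolynomial.aeval x).toRingHom,
    (n₀.map (algebraMap A L)).comap (MvPolynomial.aeval x).toRingHom, Ideal.IsPrime.comap _,
    Ideal.IsPrime.comap _, Ideal.comap_mono (Ideal.map_mono hQn), fun l => ?_, fun l => ?_, ?_, ?_⟩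
  · obtain ⟨a, ha, ha'⟩ := key (f l) (hf l)
    have h0 : a = 0 := Subtype.ext (ha'.trans (hfY l))
    rw [h0, map_zero] at ha
    rw [Ideal.mem_comap]
    show MvPolynomial.aeval x (f l) ∈ _
    rw [(hSu.pow D).mul_right_eq_zero.mp ha.symm]
    exact zero_mem _
  · obtain ⟨a, ha, ha'⟩ := key (J l) (hJ l)
    have h0 : a ∈ n₀ := hIn fun i => by rw [ha']; exact hJY l i
    rw [Ideal.mem_comap]
    show MvPolynomial.aeval x (J l) ∈ _
    have := ha ▸ Ideal.mem_map_of_mem (algebraMap A L) h0
    exact (Ideal.IsPrime.mem_or_mem hmax this).resolve_left fun h =>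
      hmax.ne_top (Ideal.eq_top_of_isUnit_mem _ (hmax.mem_of_pow_mem _ h) hSu)
  · ext a
    rw [Ideal.mem_comap, Ideal.mem_comap]
    show MvPolynomial.aeval x (MvPolynomial.C a) ∈ _ ↔ _
    rw [MvPolynomial.aeval_C, IsScalarTower.algebraMap_apply V A L, ← Ideal.mem_comap,
      show (Q.map (algebraMap A L)).comap (algebraMap A L) = Q from
        IsLocalization.comap_map_of_isPrime_disjoint (Submonoid.powers S') L hQ (hSn' Q hQn),
      ← Ideal.mem_comap, ← Ideal.under_def, ← hQ0.over]
  · ext a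
    rw [Ideal.mem_comap, Ideal.mem_comap]
    show MvPolynomial.aeval x (MvPolynomial.C a) ∈ _ ↔ _
    rw [MvPolynomial.aeval_C, IsScalarTower.algebraMap_apply V A L, ← Ideal.mem_comap,
      show (n₀.map (algebraMap A L)).comap (algebraMap A L) = n₀ from
        IsLocalization.comap_map_of_isPrime_disjoint (Submonoid.powers S') L hn₀ (hSn' n₀ le_rfl),
      ← Ideal.mem_comap, hn0V]

/-- A socle element of the closed fibre at a prime `nR` over the maximal ideal, as a vector. -/
theorem exists_socle_vector {R : Type u} [CommRing R] [Algebra V R] [Module.Finite V R]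
    {ι : Type*} [Fintype ι] [DecidableEq ι] (b : Module.Basis ι V R) (nR : Ideal R) [nR.IsPrime]
    (hnRm : nR.comap (algebraMap V R) = maximalIdeal V) :
    ∃ (v : ι → V) (i₀ : ι), (∀ a ∈ nR, ∀ i, (Algebra.leftMulMatrix b a *ᵥ v) i ∈ maximalIdeal V) ∧
      v i₀ ∉ maximalIdeal V := by
  classical
  let k := V ⧸ maximalIdeal V
  let mR : Ideal R := (maximalIdeal V).map (algebraMap V R)
  have hmRn : mR ≤ nR := Ideal.map_le_iff_le_comap.mpr hnRm.ge
  letI : Field k := Ideal.Quotient.field _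
  letI : Algebra k (R ⧸ mR) := (Ideal.Quotient.lift (maximalIdeal V)
    ((Ideal.Quotient.mk mR).comp (algebraMap V R)) fun a ha => by
      rw [RingHom.comp_apply, Ideal.Quotient.eq_zero_iff_mem]
      exact Ideal.mem_map_of_mem _ ha).toAlgebra
  haveI : IsScalarTower V k (R ⧸ mR) := IsScalarTower.of_algebraMap_eq fun a => rfl
  haveI : Module.Finite k (R ⧸ mR) := Module.Finite.of_restrictScalars_finite V k _
  haveI : IsArtinianRing (R ⧸ mR) := IsArtinianRing.of_finite k _
  let nb : Ideal (R ⧸ mR) := nR.map (Ideal.Quotient.mk mR)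
  haveI : nb.IsPrime := Ideal.map_isPrime_of_surjective Ideal.Quotient.mk_surjective
    (by rw [Ideal.mk_ker]; exact hmRn)
  have hass : nb ∈ associatedPrimes (R ⧸ mR) (R ⧸ mR) := by
    refine Module.associatedPrimes.minimalPrimes_annihilator_subset_associatedPrimes _ _ ?_
    refine ⟨⟨inferInstance, ?_⟩, fun p hp hle => ?_⟩
    · intro a ha
      have : a * 1 = 0 := Module.mem_annihilator.mp ha 1
      rw [mul_one] at this
      rw [this]; exact zero_mem _
    · haveI := hp.1
      exact ((IsArtinianRing.isMaximal_of_isPrime p).eq_of_le (Ideal.IsPrime.ne_top ‹nb.IsPrime›) hle).ge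
  obtain ⟨-, w, hw⟩ := isAssociatedPrime_iff.mp hass
  obtain ⟨w, rfl⟩ := Ideal.Quotient.mk_surjective w
  have hann : ∀ a ∈ nR, a * w ∈ mR := fun a ha => by
    have h : Ideal.Quotient.mk mR a ∈ nb := Ideal.mem_map_of_mem _ ha
    rw [hw, Submodule.mem_colon_singleton, Submodule.mem_bot, smul_eq_mul, ← map_mul,
      Ideal.Quotient.eq_zero_iff_mem] at h
    exact h
  have hwm : w ∉ mR := fun h => Ideal.IsPrime.ne_top ‹nb.IsPrime› <| by
    rw [hw, Ideal.eq_top_iff_one, Submodule.mem_colon_singleton, one_smul, Submodule.mem_bot,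
      Ideal.Quotient.eq_zero_iff_mem]
    exact h
  have hrepr : ∀ z ∈ mR, ∀ i, b.repr z i ∈ maximalIdeal V := by
    intro z hz i
    have hz' : z ∈ maximalIdeal V • (⊤ : Submodule V R) := by
      rw [Ideal.smul_top_eq_map]; exact hz
    refine Submodule.smul_induction_on hz' (fun a ha z _ => ?_) fun z z' h h' => ?_
    · rw [map_smul, Finsupp.smul_apply, smul_eq_mul]; exact Ideal.mul_mem_right _ _ ha
    · rw [map_add, Finsupp.add_apply]; exact add_mem h h'
  obtain ⟨i₀, hi₀⟩ : ∃ i₀, b.repr w i₀ ∉ maximalIdeal V := by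
    by_contra hcon
    push Not at hcon
    refine hwm ?_
    rw [← b.sum_repr w]
    refine Ideal.sum_mem _ fun i _ => ?_
    rw [Algebra.smul_def]
    exact Ideal.mul_mem_right _ _ (Ideal.mem_map_of_mem _ (hcon i))
  refine ⟨b.repr w, i₀, fun a ha i => ?_, hi₀⟩
  rw [Algebra.leftMulMatrix_mulVec_repr]
  exact hrepr _ (hann a ha) i

theorem cert_of_lift [Fintype σ] [Fintype τ] (E : Finset (Fin n →₀ ℕ)) (D : ℕ)
    (hD : ∀ e ∈ E, e.degree ≤ D) (f : σ → MvPolynomial (Fin n) V) (J : τ → MvPolynomial (Fin n) V)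
    (hf : ∀ l, (f l).support ⊆ E) (hJ : ∀ l, (J l).support ⊆ E) (h : Lift V f J) :
    Cert V E D (fun l e => (f l).coeff e) (fun l e => (J l).coeff e) := by
  classical
  obtain ⟨P, q, hP, hq, hPq, hfP, hJq, hP0, hqm⟩ := h
  haveI := hP
  let C' := MvPolynomial (Fin n) V ⧸ P
  obtain ⟨q', hq', hqq'⟩ := Ideal.exists_le_maximal (q.map (Ideal.Quotient.mk P))
    (Ideal.IsPrime.ne_top (Ideal.map_isPrime_of_surjective Ideal.Quotient.mk_surjective
      (by rw [Ideal.mk_ker]; exact hPq)))
  have hmk : ∀ a : V, algebraMap V C' a = Ideal.Quotient.mk P (MvPolynomial.C a) := fun a => by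
    rw [IsScalarTower.algebraMap_apply V (MvPolynomial (Fin n) V) C', Ideal.Quotient.algebraMap_eq,
      MvPolynomial.algebraMap_eq]
  have hinj : Function.Injective (algebraMap V C') := by
    rw [injective_iff_map_eq_zero]
    intro a ha
    rw [hmk, Ideal.Quotient.eq_zero_iff_mem, ← Ideal.mem_comap, hP0] at ha
    exact ha
  haveI := hq'
  have hq'm : q'.comap (algebraMap V C') = maximalIdeal V :=
    ((IsLocalRing.maximalIdeal.isMaximal V).eq_of_le
      (Ideal.IsPrime.ne_top (Ideal.IsPrime.comap _)) fun a ha => by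
        rw [Ideal.mem_comap, hmk]
        exact hqq' (Ideal.mem_map_of_mem _ (hqm.ge ha : a ∈ q.comap MvPolynomial.C))).symm
  obtain ⟨R, _, _, _, _, _, nR, s, φ, hnR, hnRm, hs, hφ⟩ := exists_multisection hinj q' hq'm
  haveI := hnR
  choose N y hy hyq using hφ
  let xv : Fin n → C' := fun i => Ideal.Quotient.mk P (MvPolynomial.X i)
  let N₀ : ℕ := Finset.univ.sup fun i => N (xv i)
  let T : R := s ^ N₀
  let yv : Fin n → R := fun i => s ^ (N₀ - N (xv i)) * y (xv i)
  let ι := algebraMap R (FractionRing R)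
  have hyv : ∀ i, ι T * φ (xv i) = ι (yv i) := fun i => by
    simp only [T, yv, ι, map_mul, map_pow, hy]
    rw [← mul_assoc, ← pow_add, Nat.sub_add_cancel (Finset.le_sup (f := fun i => N (xv i)) (Finset.mem_univ i))]
  have key : ∀ p : MvPolynomial (Fin n) V, p.support ⊆ E →
      ι (homEval E D (fun e => p.coeff e) yv T) = ι T ^ D * φ (Ideal.Quotient.mk P p) := by
    intro p hp
    rw [show ι (homEval E D (fun e => p.coeff e) yv T) =
      homEval E D (fun e => p.coeff e) (fun i => ι (yv i)) (ι T) from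
        homEval_map (IsScalarTower.toAlgHom V R (FractionRing R)) E D _ yv T,
      homEval_eq E D hD _ _ _ (fun i => φ (xv i)) hyv, polyOf_coeff p hp]
    congr 1
    rw [← MvPolynomial.comp_aeval_apply]
    congr 1
    rw [← Ideal.Quotient.mkₐ_eq_mk V, MvPolynomial.aeval_unique (Ideal.Quotient.mkₐ V P)]
    rfl
  have hfz : ∀ l, homEval E D (fun e => (f l).coeff e) yv T = 0 := fun l => by
    refine IsFractionRing.injective R (FractionRing R) ?_
    rw [map_zero]
    refine (key _ (hf l)).trans ?_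
    rw [Ideal.Quotient.eq_zero_iff_mem.mpr (hfP l), map_zero, mul_zero]
  have hJz : ∀ l, homEval E D (fun e => (J l).coeff e) yv T ∈ nR := fun l => by
    let j := Ideal.Quotient.mk P (J l)
    have hj : y j ∈ nR := hyq j (hqq' (Ideal.mem_map_of_mem _ (hJq l)))
    have : s ^ N j * homEval E D (fun e => (J l).coeff e) yv T = T ^ D * y j := by
      refine IsFractionRing.injective R (FractionRing R) ?_
      rw [map_mul, map_mul, hy, map_pow, map_pow]
      rw [show algebraMap R (FractionRing R) (homEval E D (fun e => (J l).coeff e) yv T) =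
        ι T ^ D * φ j from key _ (hJ l)]
      ring
    exact (Ideal.IsPrime.mem_or_mem hnR (this ▸ Ideal.mul_mem_left _ _ hj)).resolve_left
      fun h => hs (hnR.mem_of_pow_mem _ h)
  haveI : Module.Flat V R := by
    refine Module.Flat.flat_iff_torsion_eq_bot_of_isBezout.mpr ?_
    refine (Submodule.eq_bot_iff _).mpr fun z hz => ?_
    obtain ⟨a, ha⟩ := (Submodule.mem_torsion_iff _).mp hz
    rw [Submonoid.smul_def, Algebra.smul_def, mul_eq_zero] at ha
    exact ha.resolve_left fun h => nonZeroDivisors.coe_ne_zero a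
      (FaithfulSMul.algebraMap_injective V R (h.trans (map_zero _).symm))
  haveI : Module.Free V R := Module.free_of_flat_of_isLocalRing
  let b := Module.finBasis V R
  let L := Algebra.leftMulMatrix b
  haveI : (nR.comap (algebraMap V R)).IsMaximal := hnRm ▸ IsLocalRing.maximalIdeal.isMaximal V
  haveI hnmax : nR.IsMaximal := Ideal.isMaximal_of_isIntegral_of_isMaximal_comap (R := V) nR inferInstance
  have hT : T ∉ nR := fun h => hs (hnR.mem_of_pow_mem _ h)
  obtain ⟨uu, hu⟩ := Ideal.Quotient.mk_surjective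
    (I := nR) ((Ideal.Quotient.field nR).inv (Ideal.Quotient.mk nR T))
  have hTu : T * uu - 1 ∈ nR := by
    letI := Ideal.Quotient.field nR
    rw [← Ideal.Quotient.eq_zero_iff_mem, map_sub, map_mul, hu, map_one, sub_eq_zero]
    exact mul_inv_cancel₀ (fun h => hT (Ideal.Quotient.eq_zero_iff_mem.mp h))
  obtain ⟨v, i₀, hvn, hi₀⟩ := exists_socle_vector b nR hnRm
  refine ⟨_, fun i => L (yv i), L T, L uu, v, i₀, ?_, fun l => ?_, fun l i => ?_, fun i => ?_, hi₀⟩
  · have : ∀ z ∈ Set.range (fun i => L (yv i)) ∪ {L T, L uu}, ∃ a, L a = z := by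
      rintro z (⟨i, rfl⟩ | rfl | rfl) <;> exact ⟨_, rfl⟩
    intro a ha c hc
    obtain ⟨a, rfl⟩ := this a ha
    obtain ⟨c, rfl⟩ := this c hc
    rw [← map_mul, ← map_mul, mul_comm]
  · rw [← homEval_map L, hfz, map_zero]
  · rw [← homEval_map L]
    exact hvn _ (hJz l) i
  · have h := hvn _ hTu i
    rwa [map_sub, map_mul, map_one, Matrix.sub_mulVec, Matrix.one_mulVec, Pi.sub_apply] at h

end GrothLib.SubtrLim
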