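import Groth.Agent.Lib.SubtrLim.Certificate
import Mathlib.AlgebraicGeometry.Pullbacks

/-!
# Points of the pullback of an affine chart to a valuation ring, as primes of a polynomial ring
-/

universe u

open CategoryTheory CategoryTheory.Limits AlgebraicGeometry IsLocalRing
open scoped TensorProduct

noncomputable section

namespace GrothLib.SubtrLim

variable {A B : Type u} [CommRing A] [CommRing B] [Algebra A B] {n : ℕ} {σ : Type}
  (f : σ → MvPolynomial (Fin n) A) (ρ : MvPolynomial (Fin n) A →ₐ[A] B)

theorem exists_primeMap (hρ : Function.Surjective ρ)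
    (hker : RingHom.ker ρ.toRingHom = Ideal.span (Set.range f))
    {V : Type u} [CommRing V] (α : A →+* V) {P : Scheme.{u}} {a : P ⟶ Spec (CommRingCat.of B)}
    {b : P ⟶ Spec (CommRingCat.of V)}
    (h : IsPullback a b (Spec.map (CommRingCat.ofHom (algebraMap A B))) (Spec.map (CommRingCat.ofHom α))) :
    ∃ e : P → PrimeSpectrum (MvPolynomial (Fin n) V), Continuous e ∧ (∀ x x', x' ⤳ x ↔ (e x').asIdeal ≤ (e x).asIdeal) ∧
      Set.range e = {q | ∀ l, MvPolynomial.map α (f l) ∈ q.asIdeal} ∧
      ∀ x, (e x).asIdeal.comap MvPolynomial.C = (b x).asIdeal := by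
  letI : Algebra A V := α.toAlgebra
  let y : Fin n → B ⊗[A] V := fun i => ρ (MvPolynomial.X i) ⊗ₜ 1
  let ψ : MvPolynomial (Fin n) V →+* B ⊗[A] V :=
    MvPolynomial.eval₂Hom (Algebra.TensorProduct.includeRight (R := A) (A := B) (B := V)).toRingHom y
  have hψ : ∀ p, ψ (MvPolynomial.map α p) = ρ p ⊗ₜ 1 := by
    intro p
    induction p using MvPolynomial.induction_on with
    | C r =>
      rw [MvPolynomial.map_C, show ρ (MvPolynomial.C r) = algebraMap A B r from ρ.commutes r]
      simp only [ψ, MvPolynomial.eval₂Hom_C, MvPolynomial.algebraMap_eq]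
      exact ((Algebra.TensorProduct.includeRight (R := A) (A := B) (B := V)).commutes r).trans
        (Algebra.TensorProduct.algebraMap_apply r)
    | add p q hp hq => rw [map_add, map_add, hp, hq, map_add, TensorProduct.add_tmul]
    | mul_X p i hp =>
      rw [map_mul, map_mul, hp, MvPolynomial.map_X, map_mul]
      simp only [ψ, MvPolynomial.eval₂Hom_X', y]
      rw [Algebra.TensorProduct.tmul_mul_tmul, mul_one]
  let I : Ideal (MvPolynomial (Fin n) V) := Ideal.span (Set.range fun l => MvPolynomial.map α (f l))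
  let mk := Ideal.Quotient.mk I
  let xq : Fin n → MvPolynomial (Fin n) V ⧸ I := fun i => mk (MvPolynomial.X i)
  have hev : ∀ p, MvPolynomial.aeval xq p = mk (MvPolynomial.map α p) := by
    intro p
    induction p using MvPolynomial.induction_on with
    | C r => rw [MvPolynomial.aeval_C, MvPolynomial.map_C]; rfl
    | add p q hp hq => simp only [map_add, hp, hq]
    | mul_X p i hp => simp only [map_mul, hp, MvPolynomial.aeval_X, MvPolynomial.map_X, xq]
  let θ₀ : B →ₐ[A] MvPolynomial (Fin n) V ⧸ I := AlgHom.liftOfSurjective ρ hρ (MvPolynomial.aeval xq) <| by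
    intro p hp
    have hp' : p ∈ Ideal.span (Set.range f) := hker.le hp
    refine (Ideal.span_le.mpr ?_ : Ideal.span (Set.range f) ≤ RingHom.ker (MvPolynomial.aeval xq)) hp'
    rintro - ⟨l, rfl⟩
    rw [SetLike.mem_coe, RingHom.mem_ker, hev]
    exact Ideal.Quotient.eq_zero_iff_mem.mpr (Ideal.subset_span ⟨l, rfl⟩)
  let θ := Algebra.TensorProduct.productMap θ₀ (IsScalarTower.toAlgHom A V (MvPolynomial (Fin n) V ⧸ I))
  have hθψ : ∀ p, θ (ψ p) = mk p := by
    intro p
    induction p using MvPolynomial.induction_on with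
    | C r =>
      simp only [ψ, MvPolynomial.eval₂Hom_C]
      exact (Algebra.TensorProduct.productMap_right_apply θ₀ _ r).trans rfl
    | add p q hp hq => simp only [map_add, hp, hq]
    | mul_X p i hp =>
      simp only [map_mul, hp]
      congr 1
      simp only [ψ, MvPolynomial.eval₂Hom_X', y]
      refine (Algebra.TensorProduct.productMap_left_apply θ₀ _ _).trans ?_
      rw [AlgHom.liftOfSurjective_apply, MvPolynomial.aeval_X]
  have hψker : RingHom.ker ψ = I := by
    refine le_antisymm (fun p hp => ?_) (Ideal.span_le.mpr ?_)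
    · rw [← Ideal.Quotient.eq_zero_iff_mem]
      exact (hθψ p).symm.trans (by rw [RingHom.mem_ker.mp hp, map_zero])
    · rintro - ⟨l, rfl⟩
      rw [SetLike.mem_coe, RingHom.mem_ker, hψ,
        show ρ (f l) = 0 from RingHom.mem_ker.mp (hker.ge (Ideal.subset_span ⟨l, rfl⟩) :),
        TensorProduct.zero_tmul]
  have hψs : Function.Surjective ψ := fun z => by
    induction z using TensorProduct.induction_on with
    | zero => exact ⟨0, map_zero _⟩
    | add z z' hz hz' =>
      obtain ⟨p, rfl⟩ := hz; obtain ⟨p', rfl⟩ := hz'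
      exact ⟨p + p', map_add _ _ _⟩
    | tmul s t =>
      obtain ⟨p, rfl⟩ := hρ s
      refine ⟨MvPolynomial.map α p * MvPolynomial.C t, ?_⟩
      rw [map_mul, hψ]
      simp only [ψ, MvPolynomial.eval₂Hom_C]
      exact (Algebra.TensorProduct.tmul_mul_tmul _ _ _ _).trans (by rw [mul_one, one_mul])
  have h' : IsPullback a b (Spec.map (CommRingCat.ofHom (algebraMap A B)))
      (Spec.map (CommRingCat.ofHom (algebraMap A V))) := h
  let i : P ≅ Spec (CommRingCat.of (B ⊗[A] V)) := h'.isoPullback ≪≫ pullbackSpecIso A B V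
  have hb : i.hom ≫ Spec.map (CommRingCat.ofHom (Algebra.TensorProduct.includeRight
      (R := A) (A := B) (B := V)).toRingHom) = b := by
    rw [← h'.isoPullback_hom_snd, Iso.trans_hom, Category.assoc]
    congr 1
    exact pullbackSpecIso_hom_snd A B V
  let e : P → PrimeSpectrum (MvPolynomial (Fin n) V) := PrimeSpectrum.comap ψ ∘ i.hom.homeomorph
  refine ⟨e, (PrimeSpectrum.continuous_comap ψ).comp i.hom.homeomorph.continuous, fun x x' => ?_, ?_,
    fun x => ?_⟩
  · rw [← ((PrimeSpectrum.isClosedEmbedding_comap_of_surjective _ _ hψs).isInducing.comp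
      i.hom.homeomorph.isInducing).specializes_iff]
    exact (PrimeSpectrum.le_iff_specializes (e x') (e x)).symm
  · rw [show Set.range e = Set.range (PrimeSpectrum.comap ψ) from
      Function.Surjective.range_comp i.hom.homeomorph.surjective (PrimeSpectrum.comap ψ),
      range_comap_of_surjective _ _ hψs, hψker]
    ext q
    simp only [I, PrimeSpectrum.zeroLocus_span, PrimeSpectrum.mem_zeroLocus, Set.range_subset_iff,
      SetLike.mem_coe, Set.mem_ofPred_eq]
  · rw [← hb, Scheme.Hom.comp_apply]
    show Ideal.comap MvPolynomial.C ((i.hom x).asIdeal.comap ψ) = _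
    rw [Ideal.comap_comap]
    congr 1
    ext r
    exact MvPolynomial.eval₂Hom_C _ _ r

end GrothLib.SubtrLim
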