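import Groth.Agent.Lib.SubtrLim.Chart
import Groth.Agent.Lib.SubtrLim.Affine
import Groth.Agent.Lib.SubtrLim.Criterion
import Groth.Agent.Lib.LimDesc.Basic

/-!
# Universally subtrusive and universally open morphisms descend along affine limits
-/

set_option backward.isDefEq.respectTransparency false

universe u

open CategoryTheory CategoryTheory.Limits AlgebraicGeometry IsLocalRing GrothLib.HTop

noncomputable section

namespace GrothLib.SubtrLim

variable {X₀ Y₀ : Scheme.{u}} (f₀ : X₀ ⟶ Y₀)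

/-- A finitely presented affine chart of `f₀` over the affine open `U`. -/
structure AffChart (U : Y₀.Opens) where
  B : Type u
  [ring : CommRing B]
  [alg : Algebra Γ(Y₀, U) B]
  n : ℕ
  m : ℕ
  f : Fin m → MvPolynomial (Fin n) Γ(Y₀, U)
  ρ : MvPolynomial (Fin n) Γ(Y₀, U) →ₐ[Γ(Y₀, U)] B
  surjective : Function.Surjective ρ
  ker_eq : RingHom.ker ρ.toRingHom = Ideal.span (Set.range f)
  hU : IsAffineOpen U
  π : Spec (CommRingCat.of B) ⟶ f₀ ⁻¹ᵁ U
  π_surjective : Surjective π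
  π_flat : Flat π
  π_open : UniversallyOpen π
  π_comp : π ≫ f₀ ∣_ U = Spec.map (CommRingCat.ofHom (algebraMap Γ(Y₀, U) B)) ≫ hU.isoSpec.inv

attribute [instance] AffChart.ring AffChart.alg AffChart.π_surjective AffChart.π_flat AffChart.π_open

theorem exists_affChart [QuasiCompact f₀] [LocallyOfFinitePresentation f₀] {U : Y₀.Opens}
    (hU : IsAffineOpen U) : Nonempty (AffChart f₀ U) := by
  let W : X₀.Opens := f₀ ⁻¹ᵁ U
  haveI : CompactSpace W.toScheme := isCompact_iff_compactSpace.mp (f₀.isCompact_preimage hU.isCompact)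
  let 𝒰 := W.toScheme.affineCover.finiteSubcover
  haveI : ∀ i, IsAffine (𝒰.X i) := fun i => by
    simp only [𝒰, Scheme.OpenCover.finiteSubcover_X]; infer_instance
  let X' : Scheme.{u} := ∐ 𝒰.X
  let p : X' ⟶ W.toScheme := Sigma.desc 𝒰.f
  haveI hs : Surjective p := inferInstanceAs (Surjective (Sigma.desc fun i ↦ 𝒰.f i))
  haveI hfl : Flat p := IsZariskiLocalAtSource.sigmaDesc (P := @Flat) fun i => inferInstance
  haveI ho : UniversallyOpen p := IsZariskiLocalAtSource.sigmaDesc (P := @UniversallyOpen) fun i => inferInstance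
  haveI : LocallyOfFinitePresentation p :=
    IsZariskiLocalAtSource.sigmaDesc (P := @LocallyOfFinitePresentation) fun i => inferInstance
  haveI : LocallyOfFinitePresentation (f₀ ∣_ U) :=
    IsZariskiLocalAtTarget.restrict (P := @LocallyOfFinitePresentation) inferInstance U
  let g : Spec Γ(X', ⊤) ⟶ Spec Γ(Y₀, U) := (X'.isoSpec.inv ≫ p) ≫ f₀ ∣_ U ≫ hU.isoSpec.hom
  let φ : Γ(Y₀, U) ⟶ Γ(X', ⊤) := Spec.preimage g
  have hφ : φ.hom.FinitePresentation :=
    (HasRingHomProperty.Spec_iff (P := @LocallyOfFinitePresentation)).mp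
      (by rw [Spec.map_preimage]; infer_instance)
  letI := φ.hom.toAlgebra
  haveI : Algebra.FinitePresentation Γ(Y₀, U) Γ(X', ⊤) := hφ
  obtain ⟨n, ρ, hρ, hker⟩ := Algebra.FinitePresentation.out (R := Γ(Y₀, U)) (A := Γ(X', ⊤))
  obtain ⟨m, f, hf⟩ := Submodule.fg_iff_exists_fin_generating_family.mp hker
  exact ⟨{
    B := Γ(X', ⊤)
    n := n
    m := m
    f := f
    ρ := ρ
    surjective := hρ
    ker_eq := hf.symm
    hU := hU
    π := X'.isoSpec.inv ≫ p
    π_surjective := inferInstance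
    π_flat := inferInstance
    π_open := inferInstance
    π_comp := by
      rw [show Spec.map (CommRingCat.ofHom (algebraMap Γ(Y₀, U) Γ(X', ⊤))) = Spec.map φ from rfl,
        Spec.map_preimage]
      simp [g] }⟩

variable {f₀} {U : Y₀.Opens} (C : AffChart f₀ U) {V : Type u} [CommRing V] [IsDomain V] [ValuationRing V]
  (α : Γ(Y₀, U) →+* V) {P : Scheme.{u}} {a : P ⟶ X₀} {b : P ⟶ Spec (CommRingCat.of V)}
  (h : IsPullback a b f₀ (Spec.map (CommRingCat.ofHom α) ≫ C.hU.fromSpec))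

include h in
/-- The chart over a valuation ring. -/
theorem AffChart.exists_over : ∃ (P' : Scheme.{u}) (μ : P' ⟶ P)
    (e : P' → PrimeSpectrum (MvPolynomial (Fin C.n) V)),
    Surjective μ ∧ Flat μ ∧ UniversallyOpen μ ∧ Continuous e ∧
    (∀ x x', x' ⤳ x ↔ (e x').asIdeal ≤ (e x).asIdeal) ∧
    Set.range e = {q | ∀ l, MvPolynomial.map α (C.f l) ∈ q.asIdeal} ∧
    ∀ x, (e x).asIdeal.comap MvPolynomial.C = (b (μ x)).asIdeal := by
  let gU := Spec.map (CommRingCat.ofHom α) ≫ C.hU.isoSpec.inv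
  have hg : gU ≫ U.ι = Spec.map (CommRingCat.ofHom α) ≫ C.hU.fromSpec := Category.assoc _ _ _
  let sq := (isPullback_morphismRestrict f₀ U).flip
  let aW : P ⟶ (f₀ ⁻¹ᵁ U).toScheme := sq.lift a (b ≫ gU) (by rw [h.w, Category.assoc, hg])
  have hP : IsPullback aW b (f₀ ∣_ U) gU :=
    IsPullback.of_right (by rw [IsPullback.lift_fst, hg]; exact h) (by rw [IsPullback.lift_snd]) sq
  have h' := (IsPullback.of_hasPullback C.π aW).paste_vert hP
  rw [C.π_comp] at h'
  have h'' : IsPullback (pullback.fst C.π aW) (pullback.snd C.π aW ≫ b)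
      (Spec.map (CommRingCat.ofHom (algebraMap Γ(Y₀, U) C.B))) (Spec.map (CommRingCat.ofHom α)) :=
    h'.of_iso (Iso.refl _) (Iso.refl _) (Iso.refl _) C.hU.isoSpec (by simp) (by simp)
      (by simp) (by simp [gU])
  obtain ⟨e, he, hle, hrange, hb⟩ := exists_primeMap C.f C.ρ C.surjective C.ker_eq α h''
  exact ⟨_, pullback.snd C.π aW, e, inferInstance, inferInstance, inferInstance, he, hle, hrange, hb⟩

include h in
theorem AffChart.pairAt_iff : PairAt C.f V α ↔
    ∃ x x' : P, x' ⤳ x ∧ b x = closed (CommRingCat.of V) ∧ b x' = gen (CommRingCat.of V) := by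
  obtain ⟨P', μ, e, hμs, hμf, -, -, hle, hrange, hb⟩ := C.exists_over α h
  constructor
  · rintro ⟨I, q, hI, hq, hIq, hfI, -, hI0, hqm⟩
    obtain ⟨z', hz'⟩ : (⟨I, hI⟩ : PrimeSpectrum _) ∈ Set.range e := by rw [hrange]; exact hfI
    obtain ⟨z, hz⟩ : (⟨q, hq⟩ : PrimeSpectrum _) ∈ Set.range e := by
      rw [hrange]; exact fun l => hIq (hfI l)
    refine ⟨μ z, μ z', ((hle z z').mpr ?_).map μ.continuous, ?_, ?_⟩
    · rw [hz, hz']; exact hIq
    · apply PrimeSpectrum.ext; rw [← hb, hz]; exact hqm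
    · apply PrimeSpectrum.ext; rw [← hb, hz']; exact hI0
  · rintro ⟨x, x', hx, hbx, hbx'⟩
    obtain ⟨z, rfl⟩ := μ.surjective x
    obtain ⟨z', hz', rfl⟩ := Flat.generalizingMap μ hx
    have hf : ∀ z, ∀ l, MvPolynomial.map α (C.f l) ∈ (e z).asIdeal := fun z =>
      hrange.le ⟨z, rfl⟩
    exact ⟨_, _, (e z').isPrime, (e z).isPrime, (hle z z').mp hz', hf z', fun e => e.elim,
      by rw [hb, hbx']; rfl, by rw [hb, hbx]; rfl⟩

include h in
theorem AffChart.forall_gen (hg : GenAt C.f V α) (x : P) (hx : b x = closed (CommRingCat.of V)) :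
    ∃ x' : P, x' ⤳ x ∧ b x' = gen (CommRingCat.of V) := by
  obtain ⟨P', μ, e, hμs, -, -, -, hle, hrange, hb⟩ := C.exists_over α h
  obtain ⟨z, rfl⟩ := μ.surjective x
  obtain ⟨I, hI, hIq, hfI, hI0⟩ := hg (e z).asIdeal (e z).isPrime (hrange.le ⟨z, rfl⟩)
    (by rw [hb, hx]; rfl)
  obtain ⟨z', hz'⟩ : (⟨I, hI⟩ : PrimeSpectrum _) ∈ Set.range e := by rw [hrange]; exact hfI
  refine ⟨μ z', ((hle z z').mpr ?_).map μ.continuous, ?_⟩
  · rw [hz']; exact hIq
  · apply PrimeSpectrum.ext; rw [← hb, hz']; exact hI0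

include h in
theorem AffChart.genAt_of_isOpenMap (hopen : IsOpenMap b) : GenAt C.f V α := by
  obtain ⟨P', μ, e, -, -, hμo, he, -, hrange, hb⟩ := C.exists_over α h
  intro q hq hfq hqm
  obtain ⟨z, hz⟩ : (⟨q, hq⟩ : PrimeSpectrum _) ∈ Set.range e := by rw [hrange]; exact hfq
  refine exists_le_of_image_generic _ q fun t ht => ?_
  have hO : IsOpen (b '' (μ '' (e ⁻¹' ((PrimeSpectrum.basicOpen t : TopologicalSpace.Opens _) : Set _)))) :=
    hopen _ (μ.isOpenMap _ ((PrimeSpectrum.basicOpen t).isOpen.preimage he))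
  have hmem : closed (CommRingCat.of V) ∈
      b '' (μ '' (e ⁻¹' ((PrimeSpectrum.basicOpen t : TopologicalSpace.Opens _) : Set _))) := by
    refine ⟨μ z, ⟨z, ?_, rfl⟩, ?_⟩
    · rw [Set.mem_preimage, hz]; exact ht
    · apply PrimeSpectrum.ext; rw [← hb, hz]; exact hqm
  obtain ⟨-, ⟨z', hz', rfl⟩, hgen⟩ := (gen_specializes (closed (CommRingCat.of V))).mem_open hO hmem
  exact ⟨(e z').asIdeal, (e z').isPrime, hrange.le ⟨z', rfl⟩, by rw [hb, hgen]; rfl, hz'⟩

end GrothLib.SubtrLim
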