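import Mathlib.RingTheory.Valuation.ValuationRing
import Mathlib.RingTheory.Ideal.Quotient.Basic
import Mathlib.RingTheory.LocalRing.MaximalIdeal.Basic
import Mathlib.Order.Filter.Ultrafilter.Basic

/-!
# Ultraproducts of valuation rings
-/

universe u v

open Filter

namespace GrothLib.SubtrLim

variable {κ : Type v} (U : Ultrafilter κ) (V : κ → Type u) [∀ k, CommRing (V k)]

/-- The families vanishing on a set of the ultrafilter. -/
def evZero : Ideal (∀ k, V k) where
  carrier := {x | ∀ᶠ k in U, x k = 0}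
  add_mem' hx hy := by
    filter_upwards [hx, hy] with k h1 h2
    simp [h1, h2]
  zero_mem' := by simp
  smul_mem' a x hx := by
    filter_upwards [hx] with k h1
    simp [h1]

theorem mem_evZero {x : ∀ k, V k} : x ∈ evZero U V ↔ ∀ᶠ k in U, x k = 0 := Iff.rfl

/-- The ultraproduct of a family of rings. -/
abbrev UProd : Type (max u v) := (∀ k, V k) ⧸ evZero U V

/-- The class of a family. -/
abbrev UProd.mk : (∀ k, V k) →+* UProd U V := Ideal.Quotient.mk (evZero U V)

theorem mk_eq_zero_iff {x : ∀ k, V k} : UProd.mk U V x = 0 ↔ ∀ᶠ k in U, x k = 0 :=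
  Ideal.Quotient.eq_zero_iff_mem

theorem mk_eq_mk_iff {x y : ∀ k, V k} : UProd.mk U V x = UProd.mk U V y ↔ ∀ᶠ k in U, x k = y k := by
  rw [← sub_eq_zero, ← map_sub, mk_eq_zero_iff]
  simp [sub_eq_zero]

variable [∀ k, IsDomain (V k)]

instance : (evZero U V).IsPrime := by
  refine Ideal.isPrime_iff.mpr ⟨?_, fun {x y} h => ?_⟩
  · rw [Ideal.ne_top_iff_one, mem_evZero]
    simpa using U.neBot.ne
  · rw [mem_evZero, mem_evZero, ← Ultrafilter.eventually_or]
    filter_upwards [h] with k hk
    exact mul_eq_zero.mp hk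

variable [∀ k, ValuationRing (V k)]

theorem dvd_total (a b : UProd U V) : a ∣ b ∨ b ∣ a := by
  classical
  obtain ⟨a, rfl⟩ := Ideal.Quotient.mk_surjective a
  obtain ⟨b, rfl⟩ := Ideal.Quotient.mk_surjective b
  rcases (Ultrafilter.eventually_or (f := U) (p := fun k => a k ∣ b k) (q := fun k => b k ∣ a k)).mp
    (Eventually.of_forall fun k => ValuationRing.dvd_total (a k) (b k)) with h | h
  · refine Or.inl ⟨UProd.mk U V fun k => if hk : a k ∣ b k then hk.choose else 0, ?_⟩
    rw [← map_mul, mk_eq_mk_iff]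
    filter_upwards [h] with k hk
    simp only [Pi.mul_apply, dif_pos hk]
    exact hk.choose_spec
  · refine Or.inr ⟨UProd.mk U V fun k => if hk : b k ∣ a k then hk.choose else 0, ?_⟩
    rw [← map_mul, mk_eq_mk_iff]
    filter_upwards [h] with k hk
    simp only [Pi.mul_apply, dif_pos hk]
    exact hk.choose_spec

instance : ValuationRing (UProd U V) where
  cond' a b := by
    rcases dvd_total U V a b with ⟨c, hc⟩ | ⟨c, hc⟩
    · exact ⟨c, Or.inl hc.symm⟩
    · exact ⟨c, Or.inr hc.symm⟩

omit [∀ k, IsDomain (V k)] [∀ k, ValuationRing (V k)] in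
theorem isUnit_mk_iff {x : ∀ k, V k} : IsUnit (UProd.mk U V x) ↔ ∀ᶠ k in U, IsUnit (x k) := by
  classical
  constructor
  · intro h
    obtain ⟨y, hy⟩ := isUnit_iff_exists_inv.mp h
    obtain ⟨y, rfl⟩ := Ideal.Quotient.mk_surjective y
    rw [← map_mul, ← map_one (UProd.mk U V), mk_eq_mk_iff] at hy
    filter_upwards [hy] with k hk
    exact IsUnit.of_mul_eq_one _ hk
  · intro h
    refine IsUnit.of_mul_eq_one (UProd.mk U V fun k => if hk : IsUnit (x k) then ↑hk.unit⁻¹ else 0) ?_
    rw [← map_mul, ← map_one (UProd.mk U V), mk_eq_mk_iff]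
    filter_upwards [h] with k hk
    simp [dif_pos hk]

theorem mk_mem_maximalIdeal_iff {x : ∀ k, V k} :
    UProd.mk U V x ∈ IsLocalRing.maximalIdeal (UProd U V) ↔
      ∀ᶠ k in U, x k ∈ IsLocalRing.maximalIdeal (V k) := by
  simp only [IsLocalRing.mem_maximalIdeal, mem_nonunits_iff, isUnit_mk_iff,
    Ultrafilter.eventually_not]

end GrothLib.SubtrLim
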